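import Cfsg.Agent.S3993
import Cfsg.Agent.Lib.Characters.Burnside
import Mathlib.Data.Set.Card
import Mathlib.GroupTheory.Transfer
import Mathlib.Tactic

/-!
# Groups whose numbers of elements of each order take exactly three values
-/

set_option autoImplicit false

namespace Cfsg.Agent.Lib.OrderCounts

variable {G : Type*} [Group G] [Finite G]

/-- The number of elements of order `m`. -/
noncomputable def cntOrd (G : Type*) [Group G] (m : ℕ) : ℕ := Nat.card {g : G // orderOf g = m}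

/-- The sum of the numbers of elements of the orders dividing `d`. -/
noncomputable def cum (G : Type*) [Group G] (d : ℕ) : ℕ := ∑ m ∈ d.divisors, cntOrd G m

theorem cntOrd_ne_zero_iff (m : ℕ) : cntOrd G m ≠ 0 ↔ ∃ g : G, orderOf g = m := by
  constructor
  · intro h
    obtain ⟨⟨g, hg⟩⟩ := (Nat.card_ne_zero.mp h).1
    exact ⟨g, hg⟩
  · rintro ⟨g, hg⟩
    exact Nat.card_ne_zero.mpr ⟨⟨⟨g, hg⟩⟩, inferInstance⟩

theorem cntOrd_one : cntOrd G 1 = 1 := by
  unfold cntOrd
  rw [Nat.card_eq_one_iff_unique]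
  exact ⟨⟨fun a b => Subtype.ext ((orderOf_eq_one_iff.mp a.2).trans (orderOf_eq_one_iff.mp b.2).symm)⟩,
    ⟨⟨1, orderOf_one⟩⟩⟩

theorem cum_eq (d : ℕ) (hd : d ≠ 0) : cum G d = Nat.card {g : G // g ^ d = 1} := by
  classical
  haveI := Fintype.ofFinite G
  unfold cum cntOrd
  simp only [Nat.card_eq_fintype_card, Fintype.card_subtype]
  exact sum_card_orderOf_eq_card_pow_eq_one hd

theorem dvd_cum {d : ℕ} (hd : d ≠ 0) (h : d ∣ Nat.card G) : d ∣ cum G d := by
  have := Cfsg.Agent.S3993.gcd_dvd_card (G := G) d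
  rwa [Nat.gcd_eq_left h, ← cum_eq d hd] at this

theorem cum_le_card {d : ℕ} (hd : d ≠ 0) : cum G d ≤ Nat.card G := by
  rw [cum_eq d hd]
  exact Finite.card_subtype_le _

theorem cast_cum_eq_zero {r d : ℕ} (hd : d ≠ 0) (h : d ∣ Nat.card G) (hr : r ∣ d) :
    ((cum G d : ℕ) : ZMod r) = 0 :=
  (ZMod.natCast_eq_zero_iff _ _).mpr (hr.trans (dvd_cum hd h))

theorem sum_divisors_mul_prime (f : ℕ → ℕ) {m q : ℕ} (hm : m ≠ 0) (hq : q.Prime) (hnd : ¬ q ∣ m) :
    ∑ i ∈ (m * q).divisors, f i = ∑ i ∈ m.divisors, f i + ∑ i ∈ m.divisors, f (i * q) := by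
  classical
  have hu : (m * q).divisors = m.divisors ∪ m.divisors.image (· * q) := by
    ext i
    simp only [Finset.mem_union, Finset.mem_image, Nat.mem_divisors]
    constructor
    · rintro ⟨hi, -⟩
      obtain ⟨a, b, ha, hb, rfl⟩ := Nat.dvd_mul.mp hi
      rcases (Nat.dvd_prime hq).mp hb with rfl | rfl
      · exact Or.inl ⟨by simpa using ha, hm⟩
      · exact Or.inr ⟨a, ⟨ha, hm⟩, rfl⟩
    · rintro (⟨hi, -⟩ | ⟨a, ⟨ha, -⟩, rfl⟩)
      · exact ⟨hi.mul_right q, mul_ne_zero hm hq.ne_zero⟩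
      · exact ⟨Nat.mul_dvd_mul_right ha q, mul_ne_zero hm hq.ne_zero⟩
  rw [hu, Finset.sum_union, Finset.sum_image]
  · exact fun a _ b _ h => Nat.eq_of_mul_eq_mul_right hq.pos h
  · rw [Finset.disjoint_left]
    intro i hi hi'
    obtain ⟨a, -, rfl⟩ := Finset.mem_image.mp hi'
    exact hnd ((dvd_mul_left q a).trans (Nat.mem_divisors.mp hi).1)

theorem cum_prime {p : ℕ} (hp : p.Prime) : cum G p = 1 + cntOrd G p := by
  unfold cum
  rw [hp.divisors, Finset.sum_pair hp.one_lt.ne, cntOrd_one]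

theorem cum_prime_sq {p : ℕ} (hp : p.Prime) :
    cum G (p ^ 2) = 1 + cntOrd G p + cntOrd G (p ^ 2) := by
  unfold cum
  rw [Nat.divisors_prime_pow hp 2, Finset.sum_map]
  simp [Finset.sum_range_succ, cntOrd_one]

theorem cum_mul_prime {m q : ℕ} (hm : m ≠ 0) (hq : q.Prime) (hnd : ¬ q ∣ m) :
    cum G (m * q) = cum G m + ∑ i ∈ m.divisors, cntOrd G (i * q) :=
  sum_divisors_mul_prime _ hm hq hnd

theorem cum_prime_mul_prime {p q : ℕ} (hp : p.Prime) (hq : q.Prime) (hne : p ≠ q) :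
    cum G (p * q) = 1 + cntOrd G p + cntOrd G q + cntOrd G (p * q) := by
  rw [cum_mul_prime hp.ne_zero hq (fun h => hne ((Nat.prime_dvd_prime_iff_eq hq hp).mp h).symm),
    cum_prime hp, hp.divisors, Finset.sum_pair hp.one_lt.ne, one_mul]
  ring

theorem totient_dvd_cntOrd (m : ℕ) : Nat.totient m ∣ cntOrd G m :=
  Cfsg.Agent.S3993.totient_dvd_card_orderOf m

theorem even_cntOrd {m : ℕ} (hm : 3 ≤ m) : 2 ∣ cntOrd G m :=
  (even_iff_two_dvd.mp (Nat.totient_even hm)).trans (totient_dvd_cntOrd m)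

theorem cntOrd_prime_ne_zero {p : ℕ} (hp : p.Prime) (h : p ∣ Nat.card G) : cntOrd G p ≠ 0 := by
  haveI := Fact.mk hp
  exact (cntOrd_ne_zero_iff p).mpr (exists_prime_orderOf_dvd_card' p h)

/-- The hypothesis: the numbers of elements of each order that occurs take exactly three values. -/
def ThreeVals (G : Type*) [Group G] (a b : ℕ) : Prop :=
  a ≠ b ∧ a ≠ 1 ∧ b ≠ 1 ∧ ∀ m, cntOrd G m ≠ 0 → cntOrd G m = 1 ∨ cntOrd G m = a ∨ cntOrd G m = b

theorem exists_threeVals
    (h : ((fun m : ℕ => Nat.card {g : G // orderOf g = m}) '' Set.range (orderOf : G → ℕ)).ncard = 3) :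
    ∃ a b, ThreeVals G a b := by
  set V := (fun m : ℕ => Nat.card {g : G // orderOf g = m}) '' Set.range (orderOf : G → ℕ) with hV
  have h1 : 1 ∈ V := ⟨1, ⟨1, orderOf_one⟩, cntOrd_one⟩
  have hfin : V.Finite := Set.finite_of_ncard_pos (by omega)
  have h2 : (V \ {1}).ncard = 2 := by rw [Set.ncard_diff_singleton_of_mem h1, h]
  obtain ⟨a, b, hab, he⟩ := Set.ncard_eq_two.mp h2
  have ha : a ∈ V \ {1} := by rw [he]; simp
  have hb : b ∈ V \ {1} := by rw [he]; simp
  refine ⟨a, b, hab, ha.2, hb.2, fun m hm => ?_⟩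
  obtain ⟨g, hg⟩ := (cntOrd_ne_zero_iff m).mp hm
  by_cases hc : cntOrd G m = 1
  · exact Or.inl hc
  · have : cntOrd G m ∈ V \ {1} := ⟨⟨m, ⟨g, hg⟩, rfl⟩, hc⟩
    rw [he] at this
    exact Or.inr (by simpa using this)

variable {a b : ℕ}

theorem ThreeVals.ne_one (_h : ThreeVals G a b) {m : ℕ} (hm : 3 ≤ m) : cntOrd G m ≠ 1 := by
  intro e
  have := even_cntOrd (G := G) hm
  rw [e] at this
  omega

theorem ThreeVals.mem (h : ThreeVals G a b) {m : ℕ} (hm : 3 ≤ m) (h0 : cntOrd G m ≠ 0) :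
    cntOrd G m = a ∨ cntOrd G m = b :=
  (h.2.2.2 m h0).resolve_left (h.ne_one hm)

/-- Two counts different from a third one agree. -/
theorem ThreeVals.eq_of_ne (h : ThreeVals G a b) {x y z : ℕ} (hx : x = a ∨ x = b) (hy : y = a ∨ y = b)
    (hz : z = a ∨ z = b) (hxz : x ≠ z) (hyz : y ≠ z) : x = y := by
  rcases hx with rfl | rfl <;> rcases hy with rfl | rfl <;> rcases hz with rfl | rfl <;> tauto

theorem two_ne_zero_zmod {p : ℕ} (hp : p.Prime) (hp2 : p ≠ 2) : (2 : ZMod p) ≠ 0 := by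
  have h2 : ((2 : ℕ) : ZMod p) ≠ 0 := fun h =>
    hp2 ((Nat.prime_dvd_prime_iff_eq hp Nat.prime_two).mp ((ZMod.natCast_eq_zero_iff _ _).mp h))
  simpa using h2

theorem three_le_of_prime {p : ℕ} (hp : p.Prime) (hp2 : p ≠ 2) : 3 ≤ p := by
  have := hp.two_le
  omega

theorem three_le_mul {p q : ℕ} (hp : p.Prime) (hp2 : p ≠ 2) (hq : q.Prime) : 3 ≤ p * q :=
  (three_le_of_prime hp hp2).trans (Nat.le_mul_of_pos_right _ hq.pos)

theorem prime_mul_dvd_card {p q : ℕ} (hp : p.Prime) (hq : q.Prime) (hne : p ≠ q)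
    (hpG : p ∣ Nat.card G) (hqG : q ∣ Nat.card G) : p * q ∣ Nat.card G :=
  ((Nat.coprime_primes hp hq).mpr hne).mul_dvd_of_dvd_of_dvd hpG hqG

theorem zmod_prime {p : ℕ} (hp : p.Prime) (hpG : p ∣ Nat.card G) :
    (1 : ZMod p) + (cntOrd G p : ZMod p) = 0 := by
  have := cast_cum_eq_zero (G := G) (r := p) hp.ne_zero hpG dvd_rfl
  rw [cum_prime hp] at this
  push_cast at this
  exact this

theorem zmod_prime_mul {p q : ℕ} (hp : p.Prime) (hq : q.Prime) (hne : p ≠ q)
    (hpG : p ∣ Nat.card G) (hqG : q ∣ Nat.card G) :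
    (1 : ZMod p) + (cntOrd G p : ZMod p) + (cntOrd G q : ZMod p) + (cntOrd G (p * q) : ZMod p) = 0 := by
  have := cast_cum_eq_zero (G := G) (r := p) (mul_ne_zero hp.ne_zero hq.ne_zero)
    (prime_mul_dvd_card hp hq hne hpG hqG) (dvd_mul_right p q)
  rw [cum_prime_mul_prime hp hq hne] at this
  push_cast at this
  exact this

/-- Case of more than one involution: at most one odd prime divisor. -/
theorem odd_prime_unique_of_one_lt (h : ThreeVals G a b) (h2 : 1 < cntOrd G 2) {p q : ℕ}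
    (hp : p.Prime) (hp2 : p ≠ 2) (hpG : p ∣ Nat.card G) (hq : q.Prime) (hq2 : q ≠ 2)
    (hqG : q ∣ Nat.card G) : p = q := by
  by_contra hne
  haveI := Fact.mk hp
  obtain ⟨t, ht⟩ := (cntOrd_ne_zero_iff (G := G) 2).mp (by omega)
  have hodd : ¬ 2 ∣ cntOrd G 2 := by
    have h2G : 2 ∣ Nat.card G := ht ▸ orderOf_dvd_natCard t
    have := dvd_cum (G := G) two_ne_zero h2G
    rw [cum_prime Nat.prime_two] at this
    omega
  have hm2 : cntOrd G 2 = a ∨ cntOrd G 2 = b := (h.2.2.2 2 (by omega)).resolve_left (by omega)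
  have hne' : ∀ m, 3 ≤ m → cntOrd G m ≠ cntOrd G 2 := fun m hm e => hodd (e ▸ even_cntOrd hm)
  have hall : ∀ m, 3 ≤ m → cntOrd G m ≠ 0 → cntOrd G m = cntOrd G p := fun m hm h0 =>
    h.eq_of_ne (h.mem hm h0) (h.mem (three_le_of_prime hp hp2) (cntOrd_prime_ne_zero hp hpG)) hm2
      (hne' m hm) (hne' p (three_le_of_prime hp hp2))
  have e1 := zmod_prime (G := G) hp hpG
  have e2 := zmod_prime_mul (G := G) hp hq hne hpG hqG
  rw [hall q (three_le_of_prime hq hq2) (cntOrd_prime_ne_zero hq hqG)] at e2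
  by_cases h0 : cntOrd G (p * q) = 0
  · rw [h0, Nat.cast_zero] at e2
    exact one_ne_zero (α := ZMod p) (by linear_combination 2 * e1 - e2)
  · rw [hall _ (three_le_mul hp hp2 hq) h0] at e2
    exact two_ne_zero_zmod hp hp2 (by linear_combination 3 * e1 - e2)

/-- Two odd primes with the same count: the count at the product is the other value. -/
theorem prime_pair_same (h : ThreeVals G a b) {p q : ℕ} (hp : p.Prime) (hp2 : p ≠ 2)
    (hpG : p ∣ Nat.card G) (hq : q.Prime) (hne : p ≠ q) (hqG : q ∣ Nat.card G)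
    (he : cntOrd G p = cntOrd G q) :
    (cntOrd G (p * q) : ZMod p) = 1 ∧ cntOrd G (p * q) ≠ 0 ∧ cntOrd G (p * q) ≠ cntOrd G p := by
  haveI := Fact.mk hp
  have e1 := zmod_prime (G := G) hp hpG
  have e2 := zmod_prime_mul (G := G) hp hq hne hpG hqG
  rw [← he] at e2
  have e3 : (cntOrd G (p * q) : ZMod p) = 1 := by linear_combination e2 - 2 * e1
  refine ⟨e3, fun h0 => ?_, fun h0 => ?_⟩
  · rw [h0, Nat.cast_zero] at e3
    exact zero_ne_one e3
  · rw [h0] at e3
    exact two_ne_zero_zmod hp hp2 (by linear_combination e1 - e3)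

theorem not_dvd_of_prime_ne {p q : ℕ} (hp : p.Prime) (hq : q.Prime) (hne : p ≠ q) : ¬ p ∣ q :=
  fun h => hne ((Nat.prime_dvd_prime_iff_eq hp hq).mp h)

theorem four_not_dvd_prime {p : ℕ} (hp : p.Prime) (hp2 : p ≠ 2) : ¬ p ∣ 4 := fun h =>
  hp2 ((Nat.prime_dvd_prime_iff_eq hp Nat.prime_two).mp (hp.dvd_of_dvd_pow (show p ∣ 2 ^ 2 from h)))

/-- At most one involution and an element of order 4: at most one odd prime divisor. -/
theorem odd_prime_unique_of_four (h : ThreeVals G a b) (h2 : cntOrd G 2 ≤ 1) (h4 : cntOrd G 4 ≠ 0)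
    {p q : ℕ} (hp : p.Prime) (hp2 : p ≠ 2) (hpG : p ∣ Nat.card G) (hq : q.Prime) (hq2 : q ≠ 2)
    (hqG : q ∣ Nat.card G) : p = q := by
  obtain ⟨g, hg⟩ := (cntOrd_ne_zero_iff (G := G) 4).mp h4
  have h4G : 4 ∣ Nat.card G := hg ▸ orderOf_dvd_natCard g
  have h21 : cntOrd G 2 = 1 := by
    have := cntOrd_prime_ne_zero (G := G) Nat.prime_two ((by norm_num : 2 ∣ 4).trans h4G)
    omega
  have hd4 : (4 : ℕ).divisors = {1, 2, 4} := by decide
  have hd2 : (2 : ℕ).divisors = {1, 2} := by decide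
  have c4 : cum G 4 = 2 + cntOrd G 4 := by
    unfold cum
    rw [hd4, Finset.sum_insert (by decide), Finset.sum_pair (by decide), cntOrd_one, h21]
    omega
  have c2 : cum G 2 = 2 := by rw [cum_prime Nat.prime_two, h21]
  have hA4 : cntOrd G 4 % 4 = 2 := by
    have := dvd_cum (G := G) (d := 4) (by norm_num) h4G
    rw [c4] at this
    omega
  have hneA : ∀ m, 4 ∣ Nat.totient m → cntOrd G m ≠ cntOrd G 4 := by
    intro m hm e
    have : 4 ∣ cntOrd G 4 := e ▸ hm.trans (totient_dvd_cntOrd m)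
    omega
  have hAmem : cntOrd G 4 = a ∨ cntOrd G 4 = b := h.mem (by norm_num) h4
  have t2 : ∀ {r : ℕ}, r.Prime → r ≠ 2 → 2 ∣ Nat.totient r := fun hr hr2 =>
    even_iff_two_dvd.mp (Nat.totient_even (by have := hr.two_le; omega))
  have t4p : ∀ {r : ℕ}, r.Prime → r ≠ 2 → 4 ∣ Nat.totient (4 * r) := by
    intro r hr hr2
    rw [Nat.totient_mul (Nat.Coprime.symm ((Nat.Prime.coprime_iff_not_dvd hr).mpr
      (four_not_dvd_prime hr hr2))), show Nat.totient 4 = 2 by decide]
    exact (show 4 = 2 * 2 by norm_num) ▸ Nat.mul_dvd_mul_left 2 (t2 hr hr2)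
  -- relations at `4 r`
  have R : ∀ {r : ℕ}, r.Prime → r ≠ 2 → r ∣ Nat.card G →
      (cntOrd G 4 : ZMod r) + (cntOrd G (4 * r) : ZMod r) = 0 := by
    intro r hr hr2 hrG
    have e1 := cast_cum_eq_zero (G := G) (r := r) (mul_ne_zero two_ne_zero hr.ne_zero)
      (prime_mul_dvd_card Nat.prime_two hr (Ne.symm hr2) ((by norm_num : 2 ∣ 4).trans h4G) hrG)
      (dvd_mul_left r 2)
    have e2 := cast_cum_eq_zero (G := G) (r := r) (mul_ne_zero (by norm_num : (4:ℕ) ≠ 0) hr.ne_zero)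
      ((Nat.Coprime.symm ((Nat.Prime.coprime_iff_not_dvd hr).mpr
        (four_not_dvd_prime hr hr2))).mul_dvd_of_dvd_of_dvd h4G hrG) (dvd_mul_left r 4)
    rw [cum_mul_prime two_ne_zero hr (not_dvd_of_prime_ne hr Nat.prime_two hr2), c2, hd2,
      Finset.sum_pair (by decide), one_mul] at e1
    rw [cum_mul_prime (by norm_num) hr (four_not_dvd_prime hr hr2), c4, hd4,
      Finset.sum_insert (by decide), Finset.sum_pair (by decide), one_mul] at e2
    push_cast at e1 e2
    linear_combination e2 - e1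
  have hfp := h.mem (three_le_of_prime hp hp2) (cntOrd_prime_ne_zero hp hpG)
  have hfq := h.mem (three_le_of_prime hq hq2) (cntOrd_prime_ne_zero hq hqG)
  by_contra hne
  -- the key step, for either order of the two primes
  have key : ∀ {u v : ℕ}, u.Prime → u ≠ 2 → u ∣ Nat.card G → v.Prime → v ≠ 2 → v ∣ Nat.card G →
      u ≠ v → cntOrd G u = cntOrd G 4 → False := by
    intro u v hu hu2 huG hv hv2 hvG huv huA
    haveI := Fact.mk hu
    haveI := Fact.mk hv
    have hfv := h.mem (three_le_of_prime hv hv2) (cntOrd_prime_ne_zero hv hvG)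
    have e1 := zmod_prime (G := G) hu huG
    have eR := R hu hu2 huG
    rw [← huA] at eR
    have hB : (cntOrd G (4 * u) : ZMod u) = 1 := by linear_combination eR - e1
    have hB0 : cntOrd G (4 * u) ≠ 0 := fun h0 => by
      rw [h0, Nat.cast_zero] at hB
      exact zero_ne_one hB
    have hBmem := h.mem (by have := hu.two_le; omega) hB0
    have hBA : cntOrd G (4 * u) ≠ cntOrd G 4 := hneA _ (t4p hu hu2)
    have e2 := zmod_prime_mul (G := G) hu hv huv huG hvG
    have tuv : 4 ∣ Nat.totient (u * v) := by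
      rw [Nat.totient_mul ((Nat.coprime_primes hu hv).mpr huv)]
      exact (show 4 = 2 * 2 by norm_num) ▸ Nat.mul_dvd_mul (t2 hu hu2) (t2 hv hv2)
    have he : cntOrd G (u * v) = 0 ∨ cntOrd G (u * v) = cntOrd G (4 * u) :=
      (em (cntOrd G (u * v) = 0)).imp_right fun h0 =>
        h.eq_of_ne (h.mem (three_le_mul hu hu2 hv) h0) hBmem hAmem (hneA _ tuv) hBA
    have hvA : cntOrd G v = cntOrd G 4 := by
      by_contra hvA
      rw [h.eq_of_ne hfv hBmem hAmem hvA hBA] at e2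
      rcases he with h0 | h0 <;> rw [h0] at e2
      · rw [Nat.cast_zero] at e2
        exact one_ne_zero (α := ZMod u) (by linear_combination e2 - e1 - hB + (0 : ZMod u) * hB)
      · exact two_ne_zero_zmod hu hu2 (by linear_combination e2 - e1 - 2 * hB)
    -- the third order `4 v`
    have eRv := R hv hv2 hvG
    have e1v := zmod_prime (G := G) hv hvG
    have hBv0 : cntOrd G (4 * v) ≠ 0 := fun h0 => by
      rw [← hvA, h0, Nat.cast_zero] at eRv
      exact one_ne_zero (α := ZMod v) (by linear_combination e1v - eRv)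
    have hBv : cntOrd G (4 * v) = cntOrd G (4 * u) :=
      h.eq_of_ne (h.mem (by have := hv.two_le; omega) hBv0) hBmem hAmem (hneA _ (t4p hv hv2)) hBA
    -- the order `4 u v`
    have h4u : (4 * u).Coprime v := (Nat.Coprime.mul_left
      (Nat.Coprime.symm ((Nat.Prime.coprime_iff_not_dvd hv).mpr (four_not_dvd_prime hv hv2)))
      ((Nat.coprime_primes hu hv).mpr huv))
    have h4uG : 4 * u ∣ Nat.card G := (Nat.Coprime.symm ((Nat.Prime.coprime_iff_not_dvd hu).mpr
      (four_not_dvd_prime hu hu2))).mul_dvd_of_dvd_of_dvd h4G huG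
    have d2 : ¬ v ∣ 2 * u := fun hd => (hv.dvd_mul.mp hd).elim
      (not_dvd_of_prime_ne hv Nat.prime_two hv2) (not_dvd_of_prime_ne hv hu (Ne.symm huv))
    have d4 : ¬ v ∣ 4 * u := fun hd => (hv.dvd_mul.mp hd).elim
      (four_not_dvd_prime hv hv2) (not_dvd_of_prime_ne hv hu (Ne.symm huv))
    have e4 := cast_cum_eq_zero (G := G) (r := u) (mul_ne_zero (mul_ne_zero (by norm_num : (4:ℕ) ≠ 0)
      hu.ne_zero) hv.ne_zero) (h4u.mul_dvd_of_dvd_of_dvd h4uG hvG)
      ((dvd_mul_left u 4).mul_right v)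
    have e2' := cast_cum_eq_zero (G := G) (r := u) (mul_ne_zero (mul_ne_zero (two_ne_zero : (2:ℕ) ≠ 0)
      hu.ne_zero) hv.ne_zero) ((mul_dvd_mul_right (mul_dvd_mul_right (by norm_num : 2 ∣ 4) u) v).trans
        (h4u.mul_dvd_of_dvd_of_dvd h4uG hvG))
      ((dvd_mul_left u 2).mul_right v)
    have n2u : ¬ u ∣ 2 := not_dvd_of_prime_ne hu Nat.prime_two hu2
    have n4u : ¬ u ∣ 4 := four_not_dvd_prime hu hu2
    rw [cum_mul_prime (mul_ne_zero two_ne_zero hu.ne_zero) hv d2, cum_mul_prime two_ne_zero hu n2u,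
      sum_divisors_mul_prime _ two_ne_zero hu n2u, c2, hd2] at e2'
    rw [cum_mul_prime (mul_ne_zero (by norm_num) hu.ne_zero) hv d4, cum_mul_prime (by norm_num) hu n4u,
      sum_divisors_mul_prime _ (by norm_num) hu n4u, c4, hd4] at e4
    simp only [Finset.sum_insert (show (1:ℕ) ∉ ({2, 4} : Finset ℕ) by decide),
      Finset.sum_pair (show (1:ℕ) ≠ 2 by decide), Finset.sum_pair (show (2:ℕ) ≠ 4 by decide),
      one_mul] at e2' e4
    push_cast at e2' e4
    rw [hBv, ← huA] at e4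
    have hg : (cntOrd G (4 * u * v) : ZMod u) + 1 = 0 := by
      linear_combination e4 - e2' - e1 - 2 * hB
    by_cases hg0 : cntOrd G (4 * u * v) = 0
    · rw [hg0, Nat.cast_zero] at hg
      exact one_ne_zero (α := ZMod u) (by linear_combination hg)
    · have tg : 4 ∣ Nat.totient (4 * u * v) := by
        rw [Nat.totient_mul h4u]
        exact (t4p hu hu2).mul_right _
      rw [h.eq_of_ne (h.mem ((show 3 ≤ 4 by norm_num).trans (Nat.le_of_dvd
        (mul_pos (mul_pos (by norm_num) hu.pos) hv.pos) ((dvd_mul_right 4 u).mul_right v))) hg0)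
        hBmem hAmem (hneA _ tg) hBA] at hg
      exact two_ne_zero_zmod hu hu2 (by linear_combination hg - hB)
  by_cases hpA : cntOrd G p = cntOrd G 4
  · exact key hp hp2 hpG hq hq2 hqG hne hpA
  by_cases hqA : cntOrd G q = cntOrd G 4
  · exact key hq hq2 hqG hp hp2 hpG (Ne.symm hne) hqA
  have he := h.eq_of_ne hfp hfq hAmem hpA hqA
  obtain ⟨-, h0, h1⟩ := prime_pair_same h hp hp2 hpG hq hne hqG he
  refine hneA (p * q) ?_ (h.eq_of_ne (h.mem (three_le_mul hp hp2 hq) h0) hAmem hfp h1 (Ne.symm hpA))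
  rw [Nat.totient_mul ((Nat.coprime_primes hp hq).mpr hne)]
  exact (show 4 = 2 * 2 by norm_num) ▸ Nat.mul_dvd_mul (t2 hp hp2) (t2 hq hq2)

/-- A count equal at two odd primes is the count at every odd prime. -/
theorem third_prime_same (h : ThreeVals G a b) {p q r : ℕ} (hp : p.Prime) (hp2 : p ≠ 2)
    (hpG : p ∣ Nat.card G) (hq : q.Prime) (hq2 : q ≠ 2) (hqG : q ∣ Nat.card G) (hne : p ≠ q)
    (he : cntOrd G p = cntOrd G q) (hr : r.Prime) (hr2 : r ≠ 2) (hrG : r ∣ Nat.card G) :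
    cntOrd G r = cntOrd G p := by
  by_contra hrA
  have hpr : p ≠ r := fun e => hrA (by rw [e])
  have hqr : q ≠ r := fun e => hrA (by rw [he, e])
  haveI := Fact.mk hp
  haveI := Fact.mk hq
  haveI := Fact.mk hr
  have hA := h.mem (three_le_of_prime hp hp2) (cntOrd_prime_ne_zero hp hpG)
  have hB := h.mem (three_le_of_prime hr hr2) (cntOrd_prime_ne_zero hr hrG)
  obtain ⟨c1, c0, cA⟩ := prime_pair_same h hp hp2 hpG hq hne hqG he
  have hpq : cntOrd G (p * q) = cntOrd G r :=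
    h.eq_of_ne (h.mem (three_le_mul hp hp2 hq) c0) hB hA cA hrA
  rw [hpq] at c1
  -- the counts at `p r` and `q r`
  have side : ∀ {s : ℕ}, s.Prime → s ≠ 2 → s ∣ Nat.card G → s ≠ r → cntOrd G s = cntOrd G p →
      (cntOrd G r : ZMod s) = 1 → cntOrd G (s * r) = cntOrd G p := by
    intro s hs hs2 hsG hsr hsA hs1
    haveI := Fact.mk hs
    have e1 := zmod_prime (G := G) hs hsG
    have e2 := zmod_prime_mul (G := G) hs hr hsr hsG hrG
    have e3 : (cntOrd G (s * r) : ZMod s) + 1 = 0 := by linear_combination e2 - e1 - hs1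
    have h0 : cntOrd G (s * r) ≠ 0 := fun h0 => by
      rw [h0, Nat.cast_zero, zero_add] at e3
      exact one_ne_zero e3
    by_contra hc
    rw [h.eq_of_ne (h.mem (three_le_mul hs hs2 hr) h0) hB hA hc hrA] at e3
    exact two_ne_zero_zmod hs hs2 (by linear_combination e3 - hs1)
  have hpr' : cntOrd G (p * r) = cntOrd G p := side hp hp2 hpG hpr rfl c1
  obtain ⟨c1q, -, -⟩ := prime_pair_same h hq hq2 hqG hp (Ne.symm hne) hpG he.symm
  rw [mul_comm, hpq] at c1q
  have hqr' : cntOrd G (q * r) = cntOrd G p := side hq hq2 hqG hqr he.symm c1q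
  -- `r` divides the common count at `p`
  have er := zmod_prime (G := G) hr hrG
  have era : (2 : ZMod r) * (cntOrd G p : ZMod r) = 0 := by
    have e2 := zmod_prime_mul (G := G) hr hp (Ne.symm hpr) hrG hpG
    rw [mul_comm r p, hpr'] at e2
    linear_combination e2 - er
  have hra : (cntOrd G p : ZMod r) = 0 :=
    (mul_eq_zero.mp era).resolve_left (two_ne_zero_zmod hr hr2)
  -- the order `p q r`
  have hnr : ¬ r ∣ p * q := fun hd => (hr.dvd_mul.mp hd).elim
    (not_dvd_of_prime_ne hr hp (Ne.symm hpr)) (not_dvd_of_prime_ne hr hq (Ne.symm hqr))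
  have hcop : (p * q).Coprime r := Nat.Coprime.mul_left ((Nat.coprime_primes hp hr).mpr hpr)
    ((Nat.coprime_primes hq hr).mpr hqr)
  have hD := hcop.mul_dvd_of_dvd_of_dvd (prime_mul_dvd_card hp hq hne hpG hqG) hrG
  have hD0 : p * q * r ≠ 0 := mul_ne_zero (mul_ne_zero hp.ne_zero hq.ne_zero) hr.ne_zero
  have hcum : cum G (p * q * r) = 1 + cntOrd G p + cntOrd G q + cntOrd G (p * q) +
      (cntOrd G r + cntOrd G (p * r) + (cntOrd G (q * r) + cntOrd G (p * q * r))) := by
    rw [cum_mul_prime (mul_ne_zero hp.ne_zero hq.ne_zero) hr hnr, cum_prime_mul_prime hp hq hne,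
      sum_divisors_mul_prime _ hp.ne_zero hq (not_dvd_of_prime_ne hq hp (Ne.symm hne)), hp.divisors,
      Finset.sum_pair hp.one_lt.ne, Finset.sum_pair hp.one_lt.ne, one_mul, one_mul]
  rw [← he, hpq, hpr', hqr'] at hcum
  have ep := cast_cum_eq_zero (G := G) (r := p) hD0 hD ((dvd_mul_right p q).mul_right r)
  have er' := cast_cum_eq_zero (G := G) (r := r) hD0 hD (dvd_mul_left r _)
  rw [hcum] at ep er'
  push_cast at ep er'
  have hep : (cntOrd G (p * q * r) : ZMod p) = 1 := by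
    linear_combination ep - 4 * zmod_prime (G := G) hp hpG - 2 * c1
  have hg0 : cntOrd G (p * q * r) ≠ 0 := fun h0 => by
    rw [h0, Nat.cast_zero] at hep
    exact zero_ne_one hep
  have hg : cntOrd G (p * q * r) = cntOrd G r := by
    refine h.eq_of_ne (h.mem ((three_le_mul hp hp2 hq).trans (Nat.le_mul_of_pos_right _ hr.pos)) hg0)
      hB hA (fun hc => ?_) hrA
    rw [hc] at hep
    exact two_ne_zero_zmod hp hp2 (by linear_combination zmod_prime (G := G) hp hpG - hep)
  rw [hg, hra] at er'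
  exact two_ne_zero_zmod hr hr2 (by linear_combination 3 * er - er')

/-- At most one involution and no element of order 4: odd primes have different counts. -/
theorem prime_counts_ne (h : ThreeVals G a b) (h2 : cntOrd G 2 ≤ 1) (h4 : cntOrd G 4 = 0)
    {p q : ℕ} (hp : p.Prime) (hp2 : p ≠ 2) (hpG : p ∣ Nat.card G) (hq : q.Prime) (hq2 : q ≠ 2)
    (hqG : q ∣ Nat.card G) (hne : p ≠ q) : cntOrd G p ≠ cntOrd G q := by
  intro he
  set N := Nat.card G with hN
  set A := cntOrd G p with hA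
  have hAmem : A = a ∨ A = b := h.mem (three_le_of_prime hp hp2) (cntOrd_prime_ne_zero hp hpG)
  -- no elements of order the square of an odd prime
  have hsq : ∀ r : ℕ, r.Prime → r ≠ 2 → r ∣ N → ∀ g : G, ¬ r ^ 2 ∣ orderOf g := by
    intro r hr hr2 hrG g hg
    haveI := Fact.mk hr
    have hrA : cntOrd G r = A := third_prime_same h hp hp2 hpG hq hq2 hqG hne he hr hr2 hrG
    obtain ⟨s, hs, hs2, hsG, hrs⟩ : ∃ s, s.Prime ∧ s ≠ 2 ∧ s ∣ N ∧ r ≠ s := by
      by_cases hrp : r = p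
      · exact ⟨q, hq, hq2, hqG, hrp ▸ hne⟩
      · exact ⟨p, hp, hp2, hpG, hrp⟩
    have hsA : cntOrd G s = A := third_prime_same h hp hp2 hpG hq hq2 hqG hne he hs hs2 hsG
    obtain ⟨c1, c0, cA⟩ := prime_pair_same h hr hr2 hrG hs hrs hsG (hrA.trans hsA.symm)
    have e1 := zmod_prime (G := G) hr hrG
    have e2 := cast_cum_eq_zero (G := G) (r := r) (pow_ne_zero 2 hr.ne_zero)
      (hg.trans (orderOf_dvd_natCard g)) (dvd_pow_self r two_ne_zero)
    rw [cum_prime_sq hr] at e2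
    push_cast at e2
    have hz : (cntOrd G (r ^ 2) : ZMod r) = 0 := by linear_combination e2 - e1
    have h0 : cntOrd G (r ^ 2) ≠ 0 :=
      (cntOrd_ne_zero_iff _).mpr ⟨_, orderOf_pow_orderOf_div (orderOf_pos g).ne' hg⟩
    have h3 : 3 ≤ r ^ 2 := (three_le_of_prime hr hr2).trans (Nat.le_self_pow two_ne_zero r)
    by_cases hc : cntOrd G (r ^ 2) = A
    · rw [hc, ← hrA] at hz
      exact one_ne_zero (α := ZMod r) (by linear_combination e1 - hz)
    · rw [h.eq_of_ne (h.mem h3 h0) (h.mem (three_le_mul hr hr2 hs) c0) hAmem hc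
        (hrA ▸ cA), c1] at hz
      exact one_ne_zero hz
  -- the odd part divides `1 + A`
  set M := ordCompl[2] N with hM
  have hM0 : 0 < M := Nat.ordCompl_pos 2 Nat.card_pos.ne'
  have hMdvd : M ∣ 1 + A := by
    refine (Nat.dvd_iff_prime_pow_dvd_dvd _ _).mpr fun r k hr hrk => ?_
    rcases Nat.eq_zero_or_pos k with rfl | hk
    · simp
    have hrM : r ∣ M := (dvd_pow_self r hk.ne').trans hrk
    have hr2 : r ≠ 2 := fun e => Nat.not_dvd_ordCompl Nat.prime_two Nat.card_pos.ne' (e ▸ hrM)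
    have hrG : r ∣ N := hrM.trans (Nat.ordCompl_dvd N 2)
    have hd := dvd_cum (G := G) (pow_ne_zero k hr.ne_zero) (hrk.trans (Nat.ordCompl_dvd N 2))
    have hcr : cum G (r ^ k) = cum G r := by
      rw [cum_eq _ (pow_ne_zero k hr.ne_zero), cum_eq _ hr.ne_zero]
      refine Nat.card_congr (Equiv.subtypeEquivRight fun g => ?_)
      rw [← orderOf_dvd_iff_pow_eq_one, ← orderOf_dvd_iff_pow_eq_one]
      refine ⟨fun hg => ?_, fun hg => hg.trans (dvd_pow_self r hk.ne')⟩
      obtain ⟨j, -, hj⟩ := (Nat.dvd_prime_pow hr).mp hg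
      rcases Nat.lt_or_ge j 2 with hj' | hj'
      · exact hj ▸ (pow_dvd_pow r (Nat.lt_succ_iff.mp hj')).trans (by rw [pow_one])
      · exact absurd (hj ▸ pow_dvd_pow r hj') (hsq r hr hr2 hrG g)
    rwa [hcr, cum_prime hr, third_prime_same h hp hp2 hpG hq hq2 hqG hne he hr hr2 hrG] at hd
  -- the 2-part is at most `1 + (number of involutions)`
  haveI := Fact.mk Nat.prime_two
  obtain ⟨S⟩ : Nonempty (Sylow 2 G) := inferInstance
  have hS : Nat.card (S : Subgroup G) ≤ 1 + cntOrd G 2 := by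
    rw [← cum_prime Nat.prime_two, cum_eq 2 two_ne_zero]
    refine Nat.card_le_card_of_injective (fun s => ⟨(s : G), ?_⟩) fun x y e =>
      Subtype.ext (congrArg (fun t : {g : G // g ^ 2 = 1} => (t : G)) e)
    obtain ⟨j, hj⟩ := (IsPGroup.iff_orderOf.mp S.isPGroup') s
    rw [← Subgroup.orderOf_coe] at hj
    rw [← orderOf_dvd_iff_pow_eq_one, hj]
    rcases Nat.lt_or_ge j 2 with h' | h'
    · exact (pow_dvd_pow 2 (Nat.lt_succ_iff.mp h')).trans (by rw [pow_one])
    · exact absurd h4 ((cntOrd_ne_zero_iff 4).mpr ⟨_,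
        orderOf_pow_orderOf_div (n := 4) (orderOf_pos (s : G)).ne' (by rw [hj]; exact pow_dvd_pow 2 h')⟩)
  have hle : N ≤ (1 + cntOrd G 2) * (1 + A) := by
    have hNe : N = Nat.card (S : Subgroup G) * M := by
      rw [S.card_eq_multiplicity, hM, Nat.ordProj_mul_ordCompl_eq_self]
    rw [hNe]
    exact Nat.mul_le_mul hS (Nat.le_of_dvd (by omega) hMdvd)
  -- but there are too many elements
  have h2pq : ¬ q ∣ 2 * p := fun hd => (hq.dvd_mul.mp hd).elim
    (not_dvd_of_prime_ne hq Nat.prime_two hq2) (not_dvd_of_prime_ne hq hp (Ne.symm hne))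
  have hbig := cum_le_card (G := G) (mul_ne_zero (mul_ne_zero (two_ne_zero : (2:ℕ) ≠ 0) hp.ne_zero) hq.ne_zero)
  have hn2p : ¬ p ∣ 2 := not_dvd_of_prime_ne hp Nat.prime_two hp2
  rw [cum_mul_prime (mul_ne_zero two_ne_zero hp.ne_zero) hq h2pq, cum_mul_prime two_ne_zero hp hn2p,
    sum_divisors_mul_prime _ two_ne_zero hp hn2p, cum_prime Nat.prime_two,
    Nat.prime_two.divisors, Finset.sum_pair (by decide), Finset.sum_pair (by decide),
    Finset.sum_pair (by decide)] at hbig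
  simp only [one_mul] at hbig
  rw [← he, ← hA, ← hN] at hbig
  obtain ⟨-, c0, -⟩ := prime_pair_same h hp hp2 hpG hq hne hqG he
  have hcpos : 0 < cntOrd G (p * q) := Nat.pos_of_ne_zero c0
  have hA2 : cntOrd G 2 * A ≤ A := by
    calc cntOrd G 2 * A ≤ 1 * A := Nat.mul_le_mul_right A h2
      _ = A := one_mul A
  rw [add_mul, one_mul, mul_add, mul_one] at hle
  omega

/-- At most two odd primes divide the order. -/
theorem no_three_odd_primes (h : ThreeVals G a b) {p q r : ℕ} (hp : p.Prime) (hp2 : p ≠ 2)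
    (hpG : p ∣ Nat.card G) (hq : q.Prime) (hq2 : q ≠ 2) (hqG : q ∣ Nat.card G)
    (hr : r.Prime) (hr2 : r ≠ 2) (hrG : r ∣ Nat.card G)
    (hpq : p ≠ q) (hpr : p ≠ r) (hqr : q ≠ r) : False := by
  rcases Nat.lt_or_ge 1 (cntOrd G 2) with h2 | h2
  · exact hpq (odd_prime_unique_of_one_lt h h2 hp hp2 hpG hq hq2 hqG)
  by_cases h4 : cntOrd G 4 = 0
  · exact prime_counts_ne h h2 h4 hp hp2 hpG hq hq2 hqG hpq
      (h.eq_of_ne (h.mem (three_le_of_prime hp hp2) (cntOrd_prime_ne_zero hp hpG))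
        (h.mem (three_le_of_prime hq hq2) (cntOrd_prime_ne_zero hq hqG))
        (h.mem (three_le_of_prime hr hr2) (cntOrd_prime_ne_zero hr hrG))
        (prime_counts_ne h h2 h4 hp hp2 hpG hr hr2 hrG hpr)
        (prime_counts_ne h h2 h4 hq hq2 hqG hr hr2 hrG hqr))
  · exact hpq (odd_prime_unique_of_four h h2 h4 hp hp2 hpG hq hq2 hqG)

theorem exists_eq_pow_mul_pow {n : ℕ} (hn : n ≠ 0) {p q : ℕ} (hne : p ≠ q)
    (h : ∀ r : ℕ, r.Prime → r ∣ n → r = p ∨ r = q) :
    n = p ^ n.factorization p * q ^ n.factorization q := by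
  conv_lhs => rw [← Nat.prod_factorization_pow_eq_self hn]
  rw [Finsupp.prod_of_support_subset (s := {p, q}) _ (fun r hr => ?_) _ (fun i _ => pow_zero i),
    Finset.prod_pair hne]
  rw [Nat.support_factorization] at hr
  rcases h r (Nat.prime_of_mem_primeFactors hr) (Nat.dvd_of_mem_primeFactors hr) with rfl | rfl <;> simp

theorem isSolvable_of_two_primes (p q : ℕ) (hp : p.Prime) (hq : q.Prime) (hne : p ≠ q)
    {H : Type*} [Group H] [Finite H] (h : ∀ r : ℕ, r.Prime → r ∣ Nat.card H → r = p ∨ r = q) :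
    Group.IsSolvable H :=
  Characters.isSolvable_of_card_eq_pow_mul_pow hp hq (exists_eq_pow_mul_pow Nat.card_pos.ne' hne h)

theorem isSolvable_of_unique_odd_prime {H : Type*} [Group H] [Finite H]
    (h : ∀ p q : ℕ, p.Prime → p ≠ 2 → p ∣ Nat.card H → q.Prime → q ≠ 2 → q ∣ Nat.card H → p = q) :
    Group.IsSolvable H := by
  by_cases hex : ∃ p : ℕ, p.Prime ∧ p ≠ 2 ∧ p ∣ Nat.card H
  · obtain ⟨p, hp, hp2, hpH⟩ := hex
    refine isSolvable_of_two_primes 2 p Nat.prime_two hp (Ne.symm hp2) fun r hr hrH => ?_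
    by_cases hr2 : r = 2
    · exact Or.inl hr2
    · exact Or.inr (h r p hr hr2 hrH hp hp2 hpH)
  · refine isSolvable_of_two_primes 2 3 Nat.prime_two Nat.prime_three (by norm_num) fun r hr hrH => ?_
    by_cases hr2 : r = 2
    · exact Or.inl hr2
    · exact absurd ⟨r, hr, hr2, hrH⟩ hex

theorem isSolvable_of_threeVals (h : ThreeVals G a b) : Group.IsSolvable G := by
  rcases Nat.lt_or_ge 1 (cntOrd G 2) with h2 | h2
  · exact isSolvable_of_unique_odd_prime fun p q => odd_prime_unique_of_one_lt h h2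
  by_cases h4 : cntOrd G 4 = 0
  swap
  · exact isSolvable_of_unique_odd_prime fun p q => odd_prime_unique_of_four h h2 h4
  by_cases hone : ∀ p q : ℕ, p.Prime → p ≠ 2 → p ∣ Nat.card G → q.Prime → q ≠ 2 → q ∣ Nat.card G → p = q
  · exact isSolvable_of_unique_odd_prime hone
  push Not at hone
  obtain ⟨p, q, hp, hp2, hpG, hq, hq2, hqG, hne⟩ := hone
  have honly : ∀ r : ℕ, r.Prime → r ≠ 2 → r ∣ Nat.card G → r = p ∨ r = q := by
    intro r hr hr2 hrG
    by_contra hc
    push Not at hc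
    exact no_three_odd_primes h hp hp2 hpG hq hq2 hqG hr hr2 hrG hne (Ne.symm hc.1) (Ne.symm hc.2)
  by_cases h2G : 2 ∣ Nat.card G
  swap
  · exact isSolvable_of_two_primes p q hp hq hne fun r hr hrG =>
      honly r hr (fun e => h2G (e ▸ hrG)) hrG
  haveI := Fact.mk Nat.prime_two
  obtain ⟨S⟩ : Nonempty (Sylow 2 G) := inferInstance
  have hS2 : Nat.card (S : Subgroup G) = 2 := by
    have hle : Nat.card (S : Subgroup G) ≤ 1 + cntOrd G 2 := by
      rw [← cum_prime Nat.prime_two, cum_eq 2 two_ne_zero]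
      refine Nat.card_le_card_of_injective (fun s => ⟨(s : G), ?_⟩) fun x y e =>
        Subtype.ext (congrArg (fun t : {g : G // g ^ 2 = 1} => (t : G)) e)
      obtain ⟨j, hj⟩ := (IsPGroup.iff_orderOf.mp S.isPGroup') s
      rw [← Subgroup.orderOf_coe] at hj
      rw [← orderOf_dvd_iff_pow_eq_one, hj]
      rcases Nat.lt_or_ge j 2 with h' | h'
      · exact (pow_dvd_pow 2 (Nat.lt_succ_iff.mp h')).trans (by rw [pow_one])
      · exact absurd h4 ((cntOrd_ne_zero_iff 4).mpr ⟨_,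
          orderOf_pow_orderOf_div (n := 4) (orderOf_pos (s : G)).ne' (by rw [hj]; exact pow_dvd_pow 2 h')⟩)
    have hge : 2 ∣ Nat.card (S : Subgroup G) := S.dvd_card_of_dvd_card h2G
    have := Nat.le_of_dvd Nat.card_pos hge
    omega
  have hcyc : IsCyclic (S : Subgroup G) := isCyclic_of_prime_card hS2
  have hmin : (Nat.card G).minFac = 2 := (Nat.minFac_eq_two_iff _).mpr h2G
  have hc := IsCyclic.isComplement' hmin hcyc
  set K := (MonoidHom.transferSylow S (hcyc.normalizer_le_centralizer hmin)).ker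
  have hK2 : ¬ 2 ∣ Nat.card K := by
    intro hd
    have hidx : K.index = 2 := by rw [hc.symm.index_eq_card, hS2]
    have h1 := S.card_eq_multiplicity
    rw [hS2] at h1
    have h4G : 2 ^ 2 ∣ Nat.card G := by
      rw [← K.card_mul_index, hidx, pow_two]
      exact Nat.mul_dvd_mul_right hd 2
    have h2le := (Nat.prime_two.pow_dvd_iff_le_factorization Nat.card_pos.ne').mp h4G
    have h3 : 2 ^ 2 ≤ 2 ^ (Nat.card G).factorization 2 := Nat.pow_le_pow_right two_pos h2le
    omega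
  have hKs : Group.IsSolvable K := isSolvable_of_two_primes p q hp hq hne fun r hr hrK =>
    honly r hr (fun e => hK2 (e ▸ hrK)) (hrK.trans (Subgroup.card_subgroup_dvd_card K))
  haveI := hKs
  haveI : IsCyclic (S : Subgroup G) := hcyc
  haveI : Group.IsSolvable (S : Subgroup G) := isSolvable_of_two_primes 2 3 Nat.prime_two
    Nat.prime_three (by norm_num) fun r hr hrS => Or.inl
      ((Nat.prime_dvd_prime_iff_eq hr Nat.prime_two).mp (hS2 ▸ hrS))
  exact solvable_of_ker_le_range K.subtype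
    (MonoidHom.transferSylow S (hcyc.normalizer_le_centralizer hmin)) (K.range_subtype.symm.le)

theorem card_primeFactors_le_two_of_odd (h : ThreeVals G a b) (hodd : Odd (Nat.card G)) :
    (Nat.card G).primeFactors.card ≤ 2 := by
  classical
  by_contra hc
  push Not at hc
  obtain ⟨p, q, r, hp, hq, hr, hpq, hpr, hqr⟩ := Finset.two_lt_card_iff.mp hc
  have hne : ∀ {s}, s ∈ (Nat.card G).primeFactors → s ≠ 2 := fun hs e => by
    have := e ▸ Nat.dvd_of_mem_primeFactors hs
    exact Nat.not_even_iff_odd.mpr hodd (even_iff_two_dvd.mpr this)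
  exact no_three_odd_primes h (Nat.prime_of_mem_primeFactors hp) (hne hp) (Nat.dvd_of_mem_primeFactors hp)
    (Nat.prime_of_mem_primeFactors hq) (hne hq) (Nat.dvd_of_mem_primeFactors hq)
    (Nat.prime_of_mem_primeFactors hr) (hne hr) (Nat.dvd_of_mem_primeFactors hr) hpq hpr hqr

end Cfsg.Agent.Lib.OrderCounts
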