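import Cfsg.Agent.Lib.OrderCounts.ThreeValues
import Cfsg.Agent.Lib.Frobenius.UniqueSubgroup
import Cfsg.Prelude.Def_Solvable

/-!
# Odd order groups with three values of the counts and two prime divisors
-/

set_option autoImplicit false

open scoped Pointwise

namespace Cfsg.Agent.Lib.OrderCounts

variable {G : Type*} [Group G] [Finite G] {a b : ℕ}

/-- No element has order `u * v` when the count there equals the count at `u`. -/
theorem mixed_count_ne (h : ThreeVals G a b) {u v : ℕ} (hu : u.Prime) (hv : v.Prime) (hv2 : v ≠ 2)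
    (huv : u ≠ v) (huG : u ∣ Nat.card G) (hvG : v ∣ Nat.card G) :
    cntOrd G (u * v) ≠ cntOrd G u := by
  intro he
  haveI := Fact.mk hu
  have hu0 : cntOrd G u ≠ 0 := cntOrd_prime_ne_zero hu huG
  have e1 := zmod_prime (G := G) hu huG
  have e2 := zmod_prime_mul (G := G) hu hv huv huG hvG
  rw [he] at e2
  have hb : (cntOrd G v : ZMod u) = 1 := by linear_combination e2 - 2 * e1
  have hex : ∀ x : {g : G // orderOf g = u}, ∃ w : G, orderOf w = v ∧ Commute (x : G) w := by
    rintro ⟨x, hx⟩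
    have hxp : IsPGroup u (Subgroup.zpowers x) :=
      IsPGroup.of_card (n := 1) (by rw [Nat.card_zpowers, hx, pow_one])
    obtain ⟨P, hP⟩ := hxp.exists_le_sylow
    let W := {g : G // orderOf g = v}
    letI act : MulAction (P : Subgroup G) W :=
      { smul := fun g w => ⟨g * w * (g : G)⁻¹, ((MulAut.conj (g : G)).orderOf_eq w.1).trans w.2⟩
        one_smul := fun w => Subtype.ext (by show (1 : G) * w * (1 : G)⁻¹ = w; group)
        mul_smul := fun g k w => Subtype.ext (by
          show ((g : G) * k) * w * ((g : G) * k)⁻¹ = g * (k * w * (k : G)⁻¹) * (g : G)⁻¹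
          group) }
    have hne : Nonempty (MulAction.fixedPoints (P : Subgroup G) W) := by
      by_contra hemp
      rw [not_nonempty_iff] at hemp
      have hc := P.isPGroup'.card_modEq_card_fixedPoints (α := W)
      rw [Nat.card_of_isEmpty (α := MulAction.fixedPoints (P : Subgroup G) W),
        ← ZMod.natCast_eq_natCast_iff] at hc
      rw [Nat.cast_zero] at hc
      exact one_ne_zero (α := ZMod u) (hb.symm.trans hc)
    obtain ⟨⟨w, hw⟩⟩ := hne
    refine ⟨w.1, w.2, ?_⟩
    have := congrArg Subtype.val (hw ⟨x, hP (Subgroup.mem_zpowers x)⟩)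
    exact mul_inv_eq_iff_eq_mul.mp this
  choose f hf1 hf2 using hex
  have hord : ∀ (x : {g : G // orderOf g = u}) (i : Fin 2),
      orderOf ((x : G) * f x ^ ((i : ℕ) + 1)) = u * v := by
    intro x i
    have hcop : (orderOf (f x)).Coprime ((i : ℕ) + 1) := by
      rw [hf1]
      refine hv.coprime_iff_not_dvd.mpr fun hd => ?_
      have h1 := Nat.le_of_dvd (by omega) hd
      have h2 := i.isLt
      have := hv.two_le
      omega
    rw [((hf2 x).pow_right _).orderOf_mul_eq_mul_orderOf_of_coprime (by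
      rw [x.2, hcop.orderOf_pow, hf1]; exact (Nat.coprime_primes hu hv).mpr huv),
      x.2, hcop.orderOf_pow, hf1]
  obtain ⟨e, -, he'⟩ := Nat.exists_mul_mod_eq_one_of_coprime ((Nat.coprime_primes hv hu).mpr (Ne.symm huv)) hu.one_lt
  have hrec : ∀ (x : {g : G // orderOf g = u}) (i : Fin 2),
      ((x : G) * f x ^ ((i : ℕ) + 1)) ^ (v * e) = x := by
    intro x i
    rw [((hf2 x).pow_right _).mul_pow, pow_mul (f x ^ ((i : ℕ) + 1)), ← pow_mul (f x),
      mul_comm ((i : ℕ) + 1) v, pow_mul (f x) v,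
      show f x ^ v = 1 from by rw [← hf1 x]; exact pow_orderOf_eq_one _, one_pow, one_pow, mul_one,
      ← pow_mod_orderOf, x.2, he', pow_one]
  have hle : 2 * cntOrd G u ≤ cntOrd G (u * v) := by
    have h1 := Nat.card_le_card_of_injective
      (fun z : {g : G // orderOf g = u} × Fin 2 =>
        (⟨(z.1 : G) * f z.1 ^ ((z.2 : ℕ) + 1), hord z.1 z.2⟩ : {g : G // orderOf g = u * v}))
      fun z z' hz => by
        have hz' := congrArg Subtype.val hz
        simp only at hz'
        have h0 : z.1 = z'.1 := Subtype.ext (by rw [← hrec z.1 z.2, hz', hrec z'.1 z'.2])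
        rw [h0] at hz'
        have h1 := pow_inj_mod.mp (mul_left_cancel hz')
        rw [hf1] at h1
        have := hv.two_le
        have := z.2.isLt
        have := z'.2.isLt
        rw [Nat.mod_eq_of_lt (by omega), Nat.mod_eq_of_lt (by omega)] at h1
        exact Prod.ext h0 (Fin.ext (by omega))
    rwa [Nat.card_prod, Nat.card_fin, mul_comm] at h1
  omega

/-- A nontrivial finite solvable group has a nontrivial normal subgroup of prime power order. -/
theorem exists_normal_pGroup (H : Type*) [Group H] [Finite H] [Group.IsSolvable H] [Nontrivial H] :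
    ∃ (r : ℕ) (N : Subgroup H), r.Prime ∧ N.Normal ∧ N ≠ ⊥ ∧ IsPGroup r N := by
  classical
  obtain ⟨n0, hn0⟩ := (Group.isSolvable_def H).mp ‹Group.IsSolvable H›
  have hex : ∃ n, derivedSeries H n = ⊥ := ⟨n0, hn0⟩
  have hpos : Nat.find hex ≠ 0 := fun e => by
    have := Nat.find_spec hex
    rw [e, derivedSeries_zero] at this
    exact top_ne_bot this
  obtain ⟨n, hn⟩ := Nat.exists_eq_succ_of_ne_zero hpos
  set A := derivedSeries H n
  have hA : A ≠ ⊥ := Nat.find_min hex (by omega)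
  have hAn : A.Normal := derivedSeries_normal H n
  have hcomm : ∀ x ∈ A, ∀ y ∈ A, Commute x y := by
    have h0 := Nat.find_spec hex
    rw [hn, derivedSeries_succ, Subgroup.commutator_eq_bot_iff_le_centralizer] at h0
    intro x hx y hy
    exact (Subgroup.mem_centralizer_iff.mp (h0 hy) x hx)
  obtain ⟨r, hr, hrA⟩ := Nat.exists_prime_and_dvd (show Nat.card A ≠ 1 from fun e =>
    hA (Subgroup.card_eq_one.mp e))
  haveI := Fact.mk hr
  let N : Subgroup H :=
    { carrier := {x | x ∈ A ∧ x ^ r = 1}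
      one_mem' := ⟨A.one_mem, one_pow r⟩
      mul_mem' := fun hx hy => ⟨A.mul_mem hx.1 hy.1, by
        rw [(hcomm _ hx.1 _ hy.1).mul_pow, hx.2, hy.2, one_mul]⟩
      inv_mem' := fun hx => ⟨A.inv_mem hx.1, by rw [inv_pow, hx.2, inv_one]⟩ }
  refine ⟨r, N, hr, ⟨fun x hx g => ⟨hAn.conj_mem x hx.1 g, by rw [conj_pow, hx.2, mul_one, mul_inv_cancel]⟩⟩, ?_, ?_⟩
  · obtain ⟨x, hx⟩ := exists_prime_orderOf_dvd_card' r hrA
    intro hN
    have hmem : (x : H) ∈ N := ⟨x.2, by
      rw [← hx, ← Subgroup.orderOf_coe]; exact pow_orderOf_eq_one _⟩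
    rw [hN, Subgroup.mem_bot] at hmem
    rw [← Subgroup.orderOf_coe, hmem, orderOf_one] at hx
    exact hr.one_lt.ne hx
  · exact fun x => ⟨1, Subtype.ext (by rw [pow_one]; exact x.2.2)⟩

theorem cum_prime_pow_succ {p : ℕ} (hp : p.Prime) (n : ℕ) :
    cum G (p ^ (n + 1)) = cum G (p ^ n) + cntOrd G (p ^ (n + 1)) := by
  unfold cum
  rw [Nat.divisors_prime_pow hp, Nat.divisors_prime_pow hp, Finset.sum_map, Finset.sum_map,
    Finset.sum_range_succ]
  rfl

/-- The structure when the counts at the two primes differ, no element has mixed order, and there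
is a nontrivial normal `p`-subgroup. -/
theorem structure_of_normal (h : ThreeVals G a b) {p q : ℕ} (hp : p.Prime) (hp2 : p ≠ 2)
    (hq : q.Prime) (hq2 : q ≠ 2) (hne : p ≠ q) (hpG : p ∣ Nat.card G) (hqG : q ∣ Nat.card G)
    [Group.IsSolvable G] (honly : ∀ r : ℕ, r.Prime → r ∣ Nat.card G → r = p ∨ r = q)
    (hdiff : cntOrd G p ≠ cntOrd G q) (hmix : cntOrd G (p * q) = 0)
    (hN : ∃ N : Subgroup G, N.Normal ∧ N ≠ ⊥ ∧ IsPGroup p N) :
    (∀ g : G, g ^ p = 1 ∨ g ^ q = 1) ∧
      ∃ C : Subgroup G, Cfsg.IsFrobeniusComplement C ∧ (Nat.card C).Prime := by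
  classical
  haveI := Fact.mk hp
  haveI := Fact.mk hq
  haveI := Fintype.ofFinite G
  have hpq : p.Coprime q := (Nat.coprime_primes hp hq).mpr hne
  have hA := h.mem (three_le_of_prime hp hp2) (cntOrd_prime_ne_zero hp hpG)
  have hB := h.mem (three_le_of_prime hq hq2) (cntOrd_prime_ne_zero hq hqG)
  -- no element has order divisible by both primes
  have hno : ∀ g : G, ¬ (p ∣ orderOf g ∧ q ∣ orderOf g) := fun g hg =>
    (cntOrd_ne_zero_iff (G := G) (p * q)).mpr ⟨_, orderOf_pow_orderOf_div (orderOf_pos g).ne'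
      (hpq.mul_dvd_of_dvd_of_dvd hg.1 hg.2)⟩ hmix
  have hcom : ∀ x w : G, Commute x w → p ∣ orderOf x → q ∣ orderOf w → False := by
    intro x w hc hx hw
    obtain ⟨x', hx', hx''⟩ : ∃ x', orderOf x' = p ∧ Commute x' w :=
      ⟨_, orderOf_pow_orderOf_div (orderOf_pos x).ne' hx, hc.pow_left _⟩
    obtain ⟨w', hw', hw''⟩ : ∃ w', orderOf w' = q ∧ Commute x' w' :=
      ⟨_, orderOf_pow_orderOf_div (orderOf_pos w).ne' hw, hx''.pow_right _⟩
    refine hno (x' * w') ?_
    rw [hw''.orderOf_mul_eq_mul_orderOf_of_coprime (by rw [hx', hw']; exact hpq), hx', hw']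
    exact ⟨dvd_mul_right _ _, dvd_mul_left _ _⟩
  have hdvd_of : ∀ {r : ℕ} [Fact r.Prime] {K : Subgroup G}, IsPGroup r K → ∀ x ∈ K, x ≠ 1 → r ∣ orderOf x := by
    intro r _ K hK x hx hx1
    obtain ⟨j, hj⟩ := IsPGroup.iff_orderOf.mp hK ⟨x, hx⟩
    rw [← Subgroup.orderOf_coe] at hj
    simp only at hj
    rw [hj]
    refine dvd_pow_self r fun e => hx1 ?_
    rw [e, pow_zero] at hj
    exact orderOf_eq_one_iff.mp hj
  have hdisj : ∀ {X Y : Subgroup G}, IsPGroup p X → IsPGroup q Y → ∀ x ∈ X, x ∈ Y → x = 1 := by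
    intro X Y hX hY x hx hy
    by_contra hx1
    exact hno x ⟨hdvd_of hX x hx hx1, hdvd_of hY x hy hx1⟩
  -- the largest normal `p`-subgroup
  obtain ⟨O, hOn, hOp, hObot, hOmax⟩ : ∃ O : Subgroup G, O.Normal ∧ IsPGroup p O ∧ O ≠ ⊥ ∧
      ∀ K : Subgroup G, K.Normal → IsPGroup p K → O ≤ K → K = O := by
    obtain ⟨N, hNn, hNbot, hNp⟩ := hN
    haveI : Nonempty {K : Subgroup G // K.Normal ∧ IsPGroup p K ∧ N ≤ K} := ⟨⟨N, hNn, hNp, le_rfl⟩⟩
    obtain ⟨⟨O, h1, h2, h3⟩, hmax⟩ :=
      Finite.exists_max fun K : {K : Subgroup G // K.Normal ∧ IsPGroup p K ∧ N ≤ K} => Nat.card K.1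
    exact ⟨O, h1, h2, fun e => hNbot (le_bot_iff.mp (e ▸ h3)), fun K hKn hKp hOK =>
      (Subgroup.eq_of_le_of_card_ge hOK (hmax ⟨K, hKn, hKp, h3.trans hOK⟩)).symm⟩
  haveI := hOn
  haveI : Nontrivial O := (Subgroup.nontrivial_iff_ne_bot _).mpr hObot
  obtain ⟨v0, hv0O, hv01⟩ : ∃ v0 ∈ O, v0 ≠ (1 : G) := by
    obtain ⟨v, hv⟩ := exists_ne (1 : O)
    exact ⟨v, v.2, fun e => hv (Subtype.ext e)⟩
  have hfree : ∀ w v : G, q ∣ orderOf w → v ∈ O → Commute v w → v = 1 := fun w v hw hv hc => by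
    by_contra hv1
    exact hcom v w hc (hdvd_of hOp v hv hv1) hw
  have hcyc : ∀ S : Subgroup G, IsPGroup q S → IsCyclic S := by
    intro S hS
    have hST : IsPGroup q (⊤ : Subgroup S) := hS.to_subgroup ⊤
    rcases Frobenius.isCyclic_or_quaternion_of_fixedPointFree (G := O)
      ((MulAut.conjNormal (H := O)).comp S.subtype)
      (fun s hs v hv => Subtype.ext (hfree (s : G) v (hdvd_of hS s s.2 fun e => hs (Subtype.ext e)) v.2
        (mul_inv_eq_iff_eq_mul.mp (congrArg Subtype.val hv)).symm))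
      (⊤ : Subgroup S) hST with hc | ⟨e, -⟩
    · exact (Subgroup.topEquiv (G := S)).isCyclic.mp hc
    · exact absurd e hq2
  -- a normal subgroup over `O` with `q`-group quotient
  have hqO : ¬ q ∣ Nat.card O := fun hd => by
    obtain ⟨x, hx⟩ := exists_prime_orderOf_dvd_card' q hd
    rw [← Subgroup.orderOf_coe] at hx
    have hx1 : (x : G) ≠ 1 := fun e => hq.one_lt.ne (by rw [← hx, e, orderOf_one])
    exact hno x ⟨hdvd_of hOp x x.2 hx1, by rw [hx]⟩
  haveI : Nontrivial (G ⧸ O) := by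
    rw [← Finite.one_lt_card_iff_nontrivial, ← Subgroup.index_eq_card]
    refine (Nat.one_lt_iff_ne_zero_and_ne_one).mpr ⟨Subgroup.index_ne_zero_of_finite, fun e => hqO ?_⟩
    rw [← O.card_mul_index, e, mul_one] at hqG
    exact hqG
  haveI : Group.IsSolvable (G ⧸ O) := solvable_of_surjective (QuotientGroup.mk'_surjective O)
  obtain ⟨r, M, hr, hMn, hMbot, hMr⟩ := exists_normal_pGroup (G ⧸ O)
  haveI := Fact.mk hr
  set R := M.comap (QuotientGroup.mk' O) with hRdef
  haveI hRn : R.Normal := hMn.comap _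
  have hOR : O ≤ R := by
    intro x hx
    rw [hRdef, Subgroup.mem_comap, QuotientGroup.mk'_apply, (QuotientGroup.eq_one_iff x).mpr hx]
    exact M.one_mem
  have hRO : R ≠ O := fun e => hMbot (by
    rw [← Subgroup.map_comap_eq_self_of_surjective (QuotientGroup.mk'_surjective O) M, ← hRdef, e,
      QuotientGroup.map_mk'_self])
  obtain rfl : r = q := by
    have hrM : r ∣ Nat.card M := by
      obtain ⟨j, hj⟩ := hMr.exists_card_eq
      rw [hj]
      refine dvd_pow_self r fun e => hMbot (Subgroup.card_eq_one.mp ?_)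
      rw [hj, e, pow_zero]
    have hrG : r ∣ Nat.card G := hrM.trans (M.card_subgroup_dvd_card.trans (Subgroup.card_quotient_dvd_card O))
    refine (honly r hr hrG).resolve_left fun e => hRO ?_
    subst e
    exact hOmax R hRn (hMr.comap_of_ker_isPGroup _ (by rwa [QuotientGroup.ker_mk'])) hOR
  have hRcard : Nat.card R = Nat.card O * Nat.card M := by
    have h1 : O.relIndex R = Nat.card M := by
      have h2 := Subgroup.relIndex_comap (⊥ : Subgroup (G ⧸ O)) (QuotientGroup.mk' O) R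
      rw [MonoidHom.comap_bot, QuotientGroup.ker_mk', hRdef,
        Subgroup.map_comap_eq_self_of_surjective (QuotientGroup.mk'_surjective O),
        Subgroup.relIndex_bot_left] at h2
      exact h2
    have h2 := Subgroup.relIndex_mul_relIndex ⊥ O R bot_le hOR
    rw [Subgroup.relIndex_bot_left, Subgroup.relIndex_bot_left, h1] at h2
    exact h2.symm
  obtain ⟨S0⟩ : Nonempty (Sylow r R) := inferInstance
  set Q0 := (S0 : Subgroup R).map R.subtype with hQ0def
  have hQ0R : Q0 ≤ R := Subgroup.map_subtype_le _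
  have hQ0p : IsPGroup r Q0 := S0.isPGroup'.map _
  have hQ0card : Nat.card Q0 = Nat.card M := by
    rw [hQ0def, Subgroup.card_map_of_injective Subtype.val_injective, S0.card_eq_multiplicity, hRcard,
      Nat.factorization_mul Nat.card_pos.ne' Nat.card_pos.ne', Finsupp.add_apply,
      Nat.factorization_eq_zero_of_not_dvd hqO, zero_add]
    obtain ⟨j, hj⟩ := hMr.exists_card_eq
    rw [hj, hq.factorization_pow, Finsupp.single_eq_same]
  have hRsup : O ⊔ Q0 = R := by
    refine Subgroup.eq_of_le_of_card_ge (sup_le hOR hQ0R) ?_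
    rw [hRcard, ← hQ0card]
    refine Nat.le_of_dvd Nat.card_pos (Nat.Coprime.mul_dvd_of_dvd_of_dvd ?_
      (Subgroup.card_dvd_of_le le_sup_left) (Subgroup.card_dvd_of_le le_sup_right))
    obtain ⟨j, hj⟩ := hQ0p.exists_card_eq
    rw [hj]
    exact ((Nat.Prime.coprime_iff_not_dvd hq).mpr hqO).symm.pow_right j
  obtain ⟨w0, hw0, hw01⟩ : ∃ w0 ∈ Q0, w0 ≠ (1 : G) := by
    haveI : Nontrivial Q0 := by
      rw [← Finite.one_lt_card_iff_nontrivial, hQ0card, Finite.one_lt_card_iff_nontrivial]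
      exact (Subgroup.nontrivial_iff_ne_bot _).mpr hMbot
    obtain ⟨w, hw⟩ := exists_ne (1 : Q0)
    exact ⟨w, w.2, fun e => hw (Subtype.ext e)⟩
  have hw0q : r ∣ orderOf w0 := hdvd_of hQ0p w0 hw0 hw01
  set H := Subgroup.normalizer (Q0 : Set G) with hHdef
  have hfr : H ⊔ R = ⊤ := Sylow.normalizer_sup_eq_top S0
  have hOH : O ⊔ H = ⊤ := by
    rw [eq_top_iff, ← hfr]
    exact sup_le le_sup_right (hRsup ▸ sup_le le_sup_left (Subgroup.le_normalizer.trans le_sup_right))
  have hOHbot : ∀ x ∈ O, x ∈ H → x = 1 := by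
    intro x hxO hxH
    refine hfree w0 x hw0q hxO ?_
    have h1 : x * w0 * x⁻¹ ∈ Q0 := (Subgroup.mem_normalizer_iff.mp hxH w0).mp hw0
    have h2 : x * w0 * x⁻¹ * w0⁻¹ ∈ O := by
      have : x * w0 * x⁻¹ * w0⁻¹ = x * (w0 * x⁻¹ * w0⁻¹) := by group
      rw [this]
      exact O.mul_mem hxO (hOn.conj_mem _ (O.inv_mem hxO) w0)
    exact mul_inv_eq_iff_eq_mul.mp (mul_inv_eq_one.mp
      (hdisj hOp hQ0p _ h2 (Q0.mul_mem h1 (Q0.inv_mem hw0))))
  have hmulOH : ∀ g : G, ∃ v ∈ O, ∃ y ∈ H, g = v * y := by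
    intro g
    have : g ∈ ((O ⊔ H : Subgroup G) : Set G) := hOH ▸ Subgroup.mem_top g
    rw [Subgroup.normal_mul] at this
    obtain ⟨v, hv, y, hy, rfl⟩ := Set.mem_mul.mp this
    exact ⟨v, hv, y, hy, rfl⟩
  have hGcard : Nat.card G = Nat.card O * Nat.card H :=
    (Subgroup.isComplement'_of_disjoint_and_mul_eq_univ
      (Subgroup.disjoint_def.mpr fun {x} hx hy => hOHbot x hx hy)
      (by rw [← Subgroup.normal_mul, hOH, Subgroup.coe_top])).card_mul.symm
  -- the normal `q`-subgroup of `H`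
  set Q := Subgroup.centralizer (Q0 : Set G) ⊓ H with hQdef
  have hQp : IsPGroup r Q := by
    intro x
    have hx : ¬ p ∣ orderOf (x : G) := fun hd =>
      hcom (x : G) w0 (Subgroup.mem_centralizer_iff.mp x.2.1 w0 hw0).symm hd hw0q
    refine ⟨(orderOf (x : G)).factorization r, Subtype.ext ?_⟩
    show (x : G) ^ _ = 1
    rw [← orderOf_dvd_iff_pow_eq_one]
    refine dvd_of_eq ?_
    conv_lhs => rw [exists_eq_pow_mul_pow (orderOf_pos (x : G)).ne' hne fun s hs hsd =>
      honly s hs (hsd.trans (orderOf_dvd_natCard _))]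
    rw [Nat.factorization_eq_zero_of_not_dvd hx, pow_zero, one_mul]
  have hQH : Q ≤ H := inf_le_right
  have hQnorm : ∀ g ∈ H, ∀ y ∈ Q, g * y * g⁻¹ ∈ Q := by
    intro g hg y hy
    refine ⟨Subgroup.mem_centralizer_iff.mpr fun z hz => ?_, H.mul_mem (H.mul_mem hg hy.2) (H.inv_mem hg)⟩
    have hz' : g⁻¹ * z * g ∈ Q0 := by
      have := (Subgroup.mem_normalizer_iff.mp (H.inv_mem hg) z).mp hz
      rwa [inv_inv] at this
    have hc := Subgroup.mem_centralizer_iff.mp hy.1 _ hz'
    calc z * (g * y * g⁻¹) = g * ((g⁻¹ * z * g) * y) * g⁻¹ := by group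
      _ = g * (y * (g⁻¹ * z * g)) * g⁻¹ := by rw [hc]
      _ = g * y * g⁻¹ * z := by group
  have hQsyl : ∀ S : Subgroup G, IsPGroup r S → S ≤ H → Q0 ≤ S → S ≤ Q := by
    intro S hS hSH hQ0S s hs
    haveI := hcyc S hS
    refine ⟨Subgroup.mem_centralizer_iff.mpr fun z hz => ?_, hSH hs⟩
    exact congrArg Subtype.val (show (⟨z, hQ0S hz⟩ : S) * ⟨s, hs⟩ = ⟨s, hs⟩ * ⟨z, hQ0S hz⟩ from by
      letI := IsCyclic.commGroup (α := S)
      exact mul_comm _ _)
  obtain ⟨SH, hSH⟩ : ∃ SH : Sylow r H, Q.subgroupOf H ≤ (SH : Subgroup H) :=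
    (hQp.comap_of_injective H.subtype H.subtype_injective).exists_le_sylow
  have hQeq : (SH : Subgroup H).map H.subtype = Q := by
    refine le_antisymm (hQsyl _ (SH.isPGroup'.map _) (Subgroup.map_subtype_le _) fun z hz => ?_) ?_
    · have hzQ : z ∈ Q := hQsyl Q0 hQ0p Subgroup.le_normalizer le_rfl hz
      exact ⟨⟨z, hQH hzQ⟩, hSH hzQ, rfl⟩
    · intro y hy
      exact ⟨⟨y, hQH hy⟩, hSH hy, rfl⟩
  set k := (Nat.card H).factorization r with hkdef
  have hQcard : Nat.card Q = r ^ k := by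
    rw [← hQeq, Subgroup.card_map_of_injective Subtype.val_injective, SH.card_eq_multiplicity]
  set M0 := Nat.card H / r ^ k with hM0def
  have hHcard : Nat.card H = r ^ k * M0 := (Nat.ordProj_mul_ordCompl_eq_self (Nat.card H) r).symm
  have hM0q : ¬ r ∣ M0 := Nat.not_dvd_ordCompl hq Nat.card_pos.ne'
  haveI : IsCyclic Q := hcyc Q hQp
  letI : CommGroup Q := IsCyclic.commGroup
  -- the normal subgroup `O Q`
  haveI hOQn : (O ⊔ Q).Normal := by
    rw [← Subgroup.normalizer_eq_top_iff, eq_top_iff, ← hOH]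
    refine sup_le (le_sup_left.trans Subgroup.le_normalizer) fun g hg => ?_
    rw [Subgroup.mem_normalizer_iff]
    have key : ∀ g ∈ H, ∀ x ∈ O ⊔ Q, g * x * g⁻¹ ∈ O ⊔ Q := by
      intro g hg x hx
      have hx' : x ∈ ((O ⊔ Q : Subgroup G) : Set G) := hx
      rw [Subgroup.normal_mul] at hx'
      obtain ⟨v, hv, y, hy, rfl⟩ := Set.mem_mul.mp hx'
      rw [show g * (v * y) * g⁻¹ = (g * v * g⁻¹) * (g * y * g⁻¹) by group]
      exact Subgroup.mul_mem_sup (hOn.conj_mem v hv g) (hQnorm g hg y hy)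
    exact fun x => ⟨key g hg x, fun hx => by
      have := key g⁻¹ (H.inv_mem hg) _ hx
      rwa [show g⁻¹ * (g * x * g⁻¹) * g⁻¹⁻¹ = x by group] at this⟩
  have hOQcard : Nat.card (O ⊔ Q : Subgroup G) = Nat.card O * r ^ k := by
    have hmul : ∀ x ∈ O ⊔ Q, ∃ v ∈ O, ∃ y ∈ Q, x = v * y := by
      intro x hx
      have hx' : x ∈ ((O ⊔ Q : Subgroup G) : Set G) := hx
      rw [Subgroup.normal_mul] at hx'
      obtain ⟨v, hv, y, hy, rfl⟩ := Set.mem_mul.mp hx'
      exact ⟨v, hv, y, hy, rfl⟩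
    rw [← hQcard, ← Nat.card_prod]
    symm
    refine Nat.card_eq_of_bijective (fun z : O × Q => (⟨(z.1 : G) * z.2, Subgroup.mul_mem_sup z.1.2 z.2.2⟩ :
      (O ⊔ Q : Subgroup G))) ⟨fun z z' hz => ?_, fun x => ?_⟩
    · have hz' := congrArg Subtype.val hz
      simp only at hz'
      have h0 : (z'.1 : G)⁻¹ * z.1 = z'.2 * (z.2 : G)⁻¹ := by
        rw [eq_mul_inv_iff_mul_eq, mul_assoc, hz']; group
      have h1 := hdisj hOp hQp _ (O.mul_mem (O.inv_mem z'.1.2) z.1.2)
        (h0 ▸ Q.mul_mem z'.2.2 (Q.inv_mem z.2.2))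
      have e1 : (z.1 : G) = z'.1 := (inv_mul_eq_one.mp h1).symm
      rw [e1] at hz'
      exact Prod.ext (Subtype.ext e1) (Subtype.ext (mul_left_cancel hz'))
    · obtain ⟨v, hv, y, hy, hxy⟩ := hmul x.1 x.2
      exact ⟨(⟨v, hv⟩, ⟨y, hy⟩), Subtype.ext hxy.symm⟩
  have hOQidx : (O ⊔ Q).index = M0 := by
    refine Nat.eq_of_mul_eq_mul_left (Nat.card_pos (α := (O ⊔ Q : Subgroup G))) ?_
    rw [Subgroup.card_mul_index, hOQcard, hGcard, hHcard, mul_assoc]
  have hqmem : ∀ (x : G) (i : ℕ), orderOf x = r ^ i → x ∈ O ⊔ Q := by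
    intro x i hx
    have h1 : orderOf (QuotientGroup.mk' (O ⊔ Q) x) ∣ r ^ i := hx ▸ orderOf_map_dvd _ x
    have h2 : orderOf (QuotientGroup.mk' (O ⊔ Q) x) ∣ M0 := by
      rw [← hOQidx, Subgroup.index_eq_card]; exact orderOf_dvd_natCard _
    have h3 := Nat.eq_one_of_dvd_coprimes (((Nat.Prime.coprime_iff_not_dvd hq).mpr hM0q).pow_left i) h1 h2
    exact (QuotientGroup.eq_one_iff x).mp (orderOf_eq_one_iff.mp h3)
  -- the counts of `q`-elements
  have hcount : ∀ i : ℕ, 1 ≤ i → i ≤ k → cntOrd G (r ^ i) = Nat.card O * Nat.totient (r ^ i) := by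
    intro i hi1 hik
    have hQi : Nat.card {y : Q // orderOf y = r ^ i} = Nat.totient (r ^ i) := by
      haveI := Fintype.ofFinite Q
      rw [Nat.card_eq_fintype_card, Fintype.card_subtype]
      exact IsCyclic.card_orderOf_eq_totient (by
        rw [← Nat.card_eq_fintype_card, hQcard]; exact pow_dvd_pow r hik)
    rw [← hQi, ← Nat.card_prod, cntOrd]
    symm
    refine Nat.card_eq_of_bijective (fun z : O × {y : Q // orderOf y = r ^ i} =>
      (⟨(z.1 : G) * ((z.2 : Q) : G) * (z.1 : G)⁻¹, ((MulAut.conj (z.1 : G)).orderOf_eq _).trans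
        ((Subgroup.orderOf_coe _).trans z.2.2)⟩ : {g : G // orderOf g = r ^ i})) ⟨fun z z' hz => ?_, fun x => ?_⟩
    · have hz' := congrArg Subtype.val hz
      simp only at hz'
      set v := (z.1 : G)
      set v' := (z'.1 : G)
      set y := ((z.2 : Q) : G)
      set y' := ((z'.2 : Q) : G)
      have hu : v'⁻¹ * v ∈ O := O.mul_mem (O.inv_mem z'.1.2) z.1.2
      have h0 : (v'⁻¹ * v) * y * (v'⁻¹ * v)⁻¹ = y' := by
        rw [show (v'⁻¹ * v) * y * (v'⁻¹ * v)⁻¹ = v'⁻¹ * (v * y * v⁻¹) * v' by group, hz']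
        group
      have hyy : y' * y⁻¹ = (v'⁻¹ * v) * (y * (v'⁻¹ * v)⁻¹ * y⁻¹) := by
        rw [← h0]; group
      have h1 : y' * y⁻¹ = 1 := hdisj hOp hQp _
        (hyy ▸ O.mul_mem hu (hOn.conj_mem _ (O.inv_mem hu) y))
        (Q.mul_mem z'.2.1.2 (Q.inv_mem z.2.1.2))
      have hy' : y' = y := mul_inv_eq_one.mp h1
      rw [hy'] at h0
      have hqy : r ∣ orderOf y := by
        rw [show orderOf y = r ^ i from (Subgroup.orderOf_coe _).trans z.2.2]
        exact dvd_pow_self r (by omega)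
      have h2 := hfree y _ hqy hu (mul_inv_eq_iff_eq_mul.mp h0)
      exact Prod.ext (Subtype.ext (inv_mul_eq_one.mp h2).symm) (Subtype.ext (Subtype.ext hy'.symm))
    · obtain ⟨x, hx⟩ := x
      set T := O ⊔ Q
      have hxT : x ∈ T := hqmem x i hx
      have hQT : Q ≤ T := le_sup_right
      have hsylT : (Nat.card (Q.subgroupOf T)) = r ^ (Nat.card T).factorization r := by
        rw [Nat.card_congr (Subgroup.subgroupOfEquivOfLe hQT).toEquiv, hQcard, hOQcard,
          Nat.factorization_mul Nat.card_pos.ne' (pow_ne_zero _ hq.ne_zero), Finsupp.add_apply,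
          Nat.factorization_eq_zero_of_not_dvd hqO, zero_add, hq.factorization_pow, Finsupp.single_eq_same]
      obtain ⟨Px, hPx⟩ := (IsPGroup.of_card (p := r) (n := i)
        (show Nat.card (Subgroup.zpowers (⟨x, hxT⟩ : T)) = r ^ i by
          rw [Nat.card_zpowers, ← Subgroup.orderOf_coe, hx])).exists_le_sylow
      obtain ⟨t, ht⟩ := MulAction.exists_smul_eq T (Sylow.ofCard (Q.subgroupOf T) hsylT) Px
      have hmem : (⟨x, hxT⟩ : T) ∈ (Px : Subgroup T) := hPx (Subgroup.mem_zpowers _)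
      rw [← ht, Sylow.coe_subgroup_smul, Subgroup.mem_pointwise_smul_iff_inv_smul_mem] at hmem
      have hy0 : (t : G)⁻¹ * x * t ∈ Q := by
        have := Subgroup.mem_subgroupOf.mp hmem
        simpa [MulAut.smul_def] using this
      have ht' : (t : G) ∈ ((O ⊔ Q : Subgroup G) : Set G) := t.2
      rw [Subgroup.normal_mul] at ht'
      obtain ⟨v, hv, y, hy, hty⟩ := Set.mem_mul.mp ht'
      have hyQ : v⁻¹ * x * v ∈ Q := by
        have := Q.mul_mem (Q.mul_mem hy hy0) (Q.inv_mem hy)
        rwa [← hty, show y * ((v * y)⁻¹ * x * (v * y)) * y⁻¹ = v⁻¹ * x * v by group] at this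
      have hord : orderOf (⟨v⁻¹ * x * v, hyQ⟩ : Q) = r ^ i := by
        rw [← Subgroup.orderOf_coe]
        exact (show orderOf (v⁻¹ * x * v) = orderOf x by
          simpa using (MulAut.conj v⁻¹).orderOf_eq x).trans hx
      exact ⟨(⟨v, hv⟩, ⟨⟨_, hyQ⟩, hord⟩), Subtype.ext (show v * (v⁻¹ * x * v) * v⁻¹ = x by group)⟩
  have hk1 : 1 ≤ k := by
    refine Nat.Prime.factorization_pos_of_dvd hq Nat.card_pos.ne' ?_
    have := (hw0q.trans (Subgroup.orderOf_dvd_natCard Q0 hw0)).trans (Subgroup.card_dvd_of_le (Subgroup.le_normalizer (H := Q0)))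
    exact this
  have hO2 : 2 ≤ Nat.card O := Finite.one_lt_card
  have hq3 : 3 ≤ r := three_le_of_prime hq hq2
  have hfq : cntOrd G r = Nat.card O * (r - 1) := by
    have := hcount 1 le_rfl hk1
    rwa [pow_one, Nat.totient_prime hq] at this
  have hpow : ∀ i, 1 ≤ i → cntOrd G (r ^ i) ≠ 0 → cntOrd G (r ^ i) = a ∨ cntOrd G (r ^ i) = b := fun i hi h0 =>
    h.mem (hq3.trans (Nat.le_self_pow (by omega) r)) h0
  have hk2 : k ≤ 2 := by
    by_contra hk3
    push Not at hk3
    have h2 := hcount 2 (by omega) (by omega)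
    have h3 := hcount 3 (by omega) (by omega)
    rw [Nat.totient_prime_pow hq (by omega)] at h2 h3
    simp only [Nat.reduceSub, pow_one] at h2 h3
    have hpos : 0 < Nat.card O * (r - 1) := Nat.mul_pos Nat.card_pos (by omega)
    have hr2' : r < r ^ 2 := by nlinarith
    have m2 := hpow 2 (by omega) (by rw [h2]; exact (Nat.mul_pos Nat.card_pos (Nat.mul_pos hq.pos (by omega))).ne')
    have m3 := hpow 3 (by omega) (by rw [h3]; exact (Nat.mul_pos Nat.card_pos (Nat.mul_pos (by nlinarith) (by omega))).ne')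
    have l12 : cntOrd G r < cntOrd G (r ^ 2) := by rw [hfq, h2]; nlinarith
    have l23 : cntOrd G (r ^ 2) < cntOrd G (r ^ 3) := by rw [h2, h3]; nlinarith
    exact absurd (h.eq_of_ne m2 m3 hB (by omega) (by omega)) (by omega)
  -- the `p`-elements
  set α := (Nat.card G).factorization p with hαdef
  have hα : 1 ≤ α := hp.factorization_pos_of_dvd Nat.card_pos.ne' hpG
  have hpcum : ∀ n, 1 ≤ n → n ≤ α → ∃ t, cum G (p ^ n) = 1 + cntOrd G p + t * cntOrd G r ∧
      (t = 0 → ∀ i, 2 ≤ i → i ≤ n → cntOrd G (p ^ i) = 0) := by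
    intro n hn1
    induction n, hn1 using Nat.le_induction with
    | base => exact fun _ => ⟨0, by rw [pow_one, cum_prime hp, zero_mul, add_zero], fun _ i h1 h2 => by omega⟩
    | succ n hn ih =>
      intro hle
      obtain ⟨t, ht, ht0⟩ := ih (by omega)
      rw [cum_prime_pow_succ hp, ht]
      by_cases h0 : cntOrd G (p ^ (n + 1)) = 0
      · refine ⟨t, by rw [h0, add_zero], fun e i hi1 hi2 => ?_⟩
        rcases Nat.lt_or_ge i (n + 1) with hi | hi
        · exact ht0 e i hi1 (by omega)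
        · rw [show i = n + 1 by omega]; exact h0
      · have hd : ∀ j, 1 ≤ j → j ≤ α → p ∣ cum G (p ^ j) := fun j h1 h2 => (dvd_pow_self p (by omega)).trans
          (dvd_cum (pow_ne_zero j hp.ne_zero) ((pow_dvd_pow p h2).trans (Nat.ordProj_dvd _ _)))
        have hz : p ∣ cntOrd G (p ^ (n + 1)) := by
          have := hd (n + 1) (by omega) hle
          rw [cum_prime_pow_succ hp] at this
          exact (Nat.dvd_add_right (hd n hn (by omega))).mp this
        have hne' : cntOrd G (p ^ (n + 1)) ≠ cntOrd G p := by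
          intro e
          have := zmod_prime (G := G) hp hpG
          rw [← e, (ZMod.natCast_eq_zero_iff _ _).mpr hz, add_zero] at this
          exact one_ne_zero this
        rw [h.eq_of_ne (h.mem ((three_le_of_prime hp hp2).trans (Nat.le_self_pow (by omega) p)) h0) hB hA
          hne' (Ne.symm hdiff)]
        exact ⟨t + 1, by ring, fun e => absurd e (by omega)⟩
  obtain ⟨t, ht, ht0⟩ := hpcum α hα le_rfl
  have hβ : (Nat.card G).factorization r = k := by
    rw [hGcard, Nat.factorization_mul Nat.card_pos.ne' Nat.card_pos.ne', Finsupp.add_apply,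
      Nat.factorization_eq_zero_of_not_dvd hqO, zero_add]
  have hpp : ∀ g : G, g ^ p ^ α = 1 ∨ g ^ r ^ k = 1 := by
    intro g
    simp only [← orderOf_dvd_iff_pow_eq_one]
    have he := exists_eq_pow_mul_pow (orderOf_pos g).ne' hne fun s hs hsd =>
      honly s hs (hsd.trans (orderOf_dvd_natCard g))
    have hle := (Nat.factorization_le_iff_dvd (orderOf_pos g).ne' Nat.card_pos.ne').mpr (orderOf_dvd_natCard g)
    by_cases hd : p ∣ orderOf g
    · have h0 : ¬ r ∣ orderOf g := fun hd' => hno g ⟨hd, hd'⟩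
      rw [Nat.factorization_eq_zero_of_not_dvd h0, pow_zero, mul_one] at he
      exact Or.inl (he ▸ pow_dvd_pow p (hle p))
    · rw [Nat.factorization_eq_zero_of_not_dvd hd, pow_zero, one_mul] at he
      exact Or.inr (he ▸ pow_dvd_pow r (hβ ▸ hle r))
  have hsum : cum G (p ^ α) + cum G (r ^ k) = Nat.card G + 1 := by
    rw [cum_eq _ (pow_ne_zero _ hp.ne_zero), cum_eq _ (pow_ne_zero _ hq.ne_zero),
      Nat.card_eq_fintype_card, Nat.card_eq_fintype_card, Nat.card_eq_fintype_card,
      Fintype.card_subtype, Fintype.card_subtype]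
    rw [← Finset.card_union_add_card_inter]
    congr 1
    · rw [← Finset.card_univ]
      congr 1
      exact Finset.eq_univ_of_forall fun g => by simpa using hpp g
    · rw [Finset.card_eq_one]
      refine ⟨1, ?_⟩
      ext g
      simp only [Finset.mem_inter, Finset.mem_filter, Finset.mem_univ, true_and, Finset.mem_singleton]
      refine ⟨fun hg => ?_, fun hg => by simp [hg]⟩
      rw [← orderOf_eq_one_iff]
      exact Nat.eq_one_of_dvd_coprimes (hpq.pow α k) (orderOf_dvd_iff_pow_eq_one.mpr hg.1)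
        (orderOf_dvd_iff_pow_eq_one.mpr hg.2)
  rw [ht, hGcard, hHcard] at hsum
  obtain ⟨hk, hk'⟩ : k = 1 ∧ True := by
    refine ⟨?_, trivial⟩
    by_contra hk
    obtain hkk : k = 2 := by omega
    have h2 := hcount 2 (by omega) (by omega)
    rw [Nat.totient_prime_pow hq (by omega)] at h2
    simp only [Nat.reduceSub, pow_one] at h2
    have hpos : 0 < Nat.card O * (r - 1) := Nat.mul_pos Nat.card_pos (by omega)
    have l12 : cntOrd G r < cntOrd G (r ^ 2) := by rw [hfq, h2]; nlinarith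
    have e2 : cntOrd G (r ^ 2) = cntOrd G p :=
      h.eq_of_ne (hpow 2 (by omega) (by omega)) hA hB (by omega) hdiff
    rw [← e2] at hsum
    rw [hkk] at hsum
    rw [cum_prime_sq hq, hfq, h2] at hsum
    have h4 : Nat.card O * (r ^ 2 * M0) =
        1 + Nat.card O * (2 * (r * (r - 1)) + t * (r - 1) + (r - 1)) := by
      linear_combination -hsum
    have hd : Nat.card O ∣ 1 := by
      refine (Nat.dvd_add_left (dvd_mul_right (Nat.card O)
        (2 * (r * (r - 1)) + t * (r - 1) + (r - 1)))).mp ?_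
      rw [← h4]
      exact dvd_mul_right _ _
    have := Nat.le_of_dvd one_pos hd
    omega
  rw [hk, pow_one, cum_prime hq, hfq] at hsum
  have hexpq : ∀ g : G, g ^ r ^ k = 1 → g ^ r = 1 := fun g hg => by rwa [hk, pow_one] at hg
  -- exponent `p` as soon as there is no element of order `p ^ 2`
  have hexpp : t = 0 → ∀ g : G, g ^ p ^ α = 1 → g ^ p = 1 := by
    intro ht' g hg
    obtain ⟨j, hj, hgj⟩ := (Nat.dvd_prime_pow hp).mp (orderOf_dvd_iff_pow_eq_one.mpr hg)
    rw [← orderOf_dvd_iff_pow_eq_one, hgj]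
    rcases Nat.lt_or_ge j 2 with hj2 | hj2
    · exact (pow_dvd_pow p (show j ≤ 1 by omega)).trans (by rw [pow_one])
    · exact absurd (ht0 ht' j hj2 hj) ((cntOrd_ne_zero_iff _).mpr ⟨g, hgj⟩)
  have hM : M0 = 1 := by
    by_contra hM1
    obtain ⟨s, hs, hsM⟩ := Nat.exists_prime_and_dvd hM1
    have hsH : s ∣ Nat.card H := hHcard ▸ hsM.mul_left _
    obtain rfl : s = p := (honly s hs (hsH.trans H.card_subgroup_dvd_card)).resolve_right
      fun e => hM0q (e ▸ hsM)
    -- `t` is nonzero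
    have htpos : t ≠ 0 := by
      intro ht'
      obtain ⟨g, hg⟩ := exists_prime_orderOf_dvd_card' s hsH
      rw [← Subgroup.orderOf_coe] at hg
      have hgQ : (g : G) ∉ Q := fun hm => by
        have hg1 : (g : G) ≠ 1 := fun e => hp.one_lt.ne (by rw [← hg, e, orderOf_one])
        exact hno (g : G) ⟨hg ▸ dvd_rfl, hdvd_of hQp _ hm hg1⟩
      have hout : ∀ x ∈ H, x ∉ Q → ∀ v ∈ O, (v * x) ^ s = 1 := by
        intro x hxH hxQ v hv
        rcases hpp (v * x) with h1 | h1
        · exact hexpp ht' _ h1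
        · exfalso
          obtain ⟨i, -, hi⟩ := (Nat.dvd_prime_pow hq).mp (orderOf_dvd_iff_pow_eq_one.mpr h1)
          have hm := hqmem _ i hi
          have hx' : x ∈ ((O ⊔ Q : Subgroup G) : Set G) := by
            have := Subgroup.mul_mem _ (Subgroup.mem_sup_left (T := Q) (O.inv_mem hv)) hm
            rwa [inv_mul_cancel_left] at this
          rw [Subgroup.normal_mul] at hx'
          obtain ⟨v', hv', y, hy, rfl⟩ := Set.mem_mul.mp hx'
          have h2 := hOHbot v' hv' (by simpa using H.mul_mem hxH (H.inv_mem (hQH hy)))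
          exact hxQ (by rw [h2, one_mul]; exact hy)
      set Z := (Subgroup.center O).map O.subtype with hZdef
      haveI hZn : Z.Normal := ConjAct.normal_of_characteristic_of_normal
      have hZO : Z ≤ O := Subgroup.map_subtype_le _
      letI : CommGroup Z :=
        { (inferInstance : Group Z) with
          mul_comm := fun x y => by
            obtain ⟨x', hx', hxe⟩ := x.2
            obtain ⟨y', -, hye⟩ := y.2
            refine Subtype.ext ?_
            show (x : G) * y = y * x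
            rw [← hxe, ← hye, ← map_mul, ← map_mul, Subgroup.mem_center_iff.mp hx' y'] }
      obtain ⟨u, hu⟩ : ∃ u : Z, (u : G) ≠ 1 := by
        haveI := hOp.center_nontrivial
        obtain ⟨c, hc⟩ := exists_ne (1 : Subgroup.center O)
        exact ⟨⟨((c : O) : G), ⟨c, c.2, rfl⟩⟩, fun e => hc (Subtype.ext (Subtype.ext e))⟩
      let c : G → Z → Z := fun x v => MulAut.conjNormal x v
      have hcoe : ∀ (x : G) (v : Z), (c x v : G) = x * v * x⁻¹ := fun x v => rfl
      have hidn : ∀ (x : G) (v : Z) (n : ℕ),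
          ((v : G) * x) ^ n = ((∏ i ∈ Finset.range n, c (x ^ i) v : Z) : G) * x ^ n := by
        intro x v n
        induction n with
        | zero => simp
        | succ n ih =>
          rw [pow_succ, ih, Finset.prod_range_succ, Subgroup.coe_mul, hcoe, pow_succ x n]
          group
      -- conjugates of `g` under `Q`
      have hconj : ∀ y : Q, ∏ i ∈ Finset.range s, c ((y : G) * (g : G) ^ i * (y : G)⁻¹) u = 1 := by
        intro y
        have hxH : (y : G) * g * (y : G)⁻¹ ∈ H := H.mul_mem (H.mul_mem (hQH y.2) g.2) (H.inv_mem (hQH y.2))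
        have hxQ : (y : G) * g * (y : G)⁻¹ ∉ Q := fun hm => hgQ (by
          have := Q.mul_mem (Q.mul_mem (Q.inv_mem y.2) hm) y.2
          simpa [mul_assoc] using this)
        have h1 := hout _ hxH hxQ u (hZO u.2)
        rw [hidn, show ((y : G) * g * (y : G)⁻¹) ^ s = 1 by
          rw [conj_pow, show (g : G) ^ s = 1 from hg ▸ pow_orderOf_eq_one _, mul_one, mul_inv_cancel], mul_one] at h1
        refine Eq.trans (Finset.prod_congr rfl fun i _ => ?_) (Subtype.ext h1)
        rw [conj_pow]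
      haveI := Fintype.ofFinite Q
      have hswap : ∏ i ∈ Finset.range s, ∏ y : Q, c ((y : G) * (g : G) ^ i * (y : G)⁻¹) u = 1 := by
        rw [Finset.prod_comm]
        exact Finset.prod_eq_one fun y _ => hconj y
      have hfix : ∀ v : Z, ∏ y : Q, c (y : G) v = 1 := by
        intro v
        obtain ⟨w, hw⟩ := exists_prime_orderOf_dvd_card' (G := Q) r (by rw [hQcard, hk, pow_one])
        rw [← Subgroup.orderOf_coe] at hw
        set F := ∏ y : Q, c (y : G) v
        have hF : c (w : G) F = F := by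
          show MulAut.conjNormal (w : G) F = F
          rw [map_prod]
          refine Fintype.prod_equiv (Equiv.mulLeft w) _ _ fun y => Subtype.ext ?_
          show (w : G) * ((y : G) * v * (y : G)⁻¹) * (w : G)⁻¹ = ((w * y : Q) : G) * v * ((w * y : Q) : G)⁻¹
          rw [Subgroup.coe_mul]
          group
        have h1 := congrArg Subtype.val hF
        rw [hcoe] at h1
        exact Subtype.ext (hfree (w : G) (F : G) (hw ▸ dvd_rfl) (hZO F.2) (mul_inv_eq_iff_eq_mul.mp h1).symm)
      have hinner : ∀ i ∈ Finset.range s, i ≠ 0 → ∏ y : Q, c ((y : G) * (g : G) ^ i * (y : G)⁻¹) u = 1 := by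
        intro i hi hi0
        have hgi : s ∣ orderOf ((g : G) ^ i) := by
          rw [(show (orderOf (g : G)).Coprime i by
            rw [hg]; exact hp.coprime_iff_not_dvd.mpr fun hd => by
              have := Nat.le_of_dvd (Nat.pos_of_ne_zero hi0) hd
              rw [Finset.mem_range] at hi; omega).orderOf_pow, hg]
        have hgiH : (g : G) ^ i ∈ H := H.pow_mem g.2 i
        let φ : Q →* Q :=
          { toFun := fun y => y * ⟨(g : G) ^ i * (y : G)⁻¹ * ((g : G) ^ i)⁻¹, hQnorm _ hgiH _ (Q.inv_mem y.2)⟩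
            map_one' := by
              refine Subtype.ext ?_
              show (1 : G) * ((g : G) ^ i * (1 : G)⁻¹ * ((g : G) ^ i)⁻¹) = 1
              group
            map_mul' := fun y z => by
              rw [mul_mul_mul_comm]
              congr 1
              rw [mul_comm y z]
              refine Subtype.ext ?_
              simp only [Subgroup.coe_mul]
              group }
        have hφ : Function.Bijective φ := by
          refine Finite.injective_iff_bijective.mp ((injective_iff_map_eq_one φ).mpr fun y hy => ?_)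
          have h1 : (y : G) * ((g : G) ^ i * (y : G)⁻¹ * ((g : G) ^ i)⁻¹) = 1 := congrArg Subtype.val hy
          by_contra hy1
          refine hcom ((g : G) ^ i) (y : G) ?_ hgi (hdvd_of hQp _ y.2 fun e => hy1 (Subtype.ext e))
          have h2 : (y : G) * (g : G) ^ i * (y : G)⁻¹ = (g : G) ^ i := by
            rw [← mul_inv_eq_one]
            rw [← h1]
            group
          exact (mul_inv_eq_iff_eq_mul.mp h2).symm
        rw [← hfix (c ((g : G) ^ i) u)]
        refine Fintype.prod_bijective φ hφ _ _ fun y => Subtype.ext ?_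
        show (y : G) * (g : G) ^ i * (y : G)⁻¹ * u * ((y : G) * (g : G) ^ i * (y : G)⁻¹)⁻¹ =
          ((y : G) * ((g : G) ^ i * (y : G)⁻¹ * ((g : G) ^ i)⁻¹)) * ((g : G) ^ i * u * ((g : G) ^ i)⁻¹) *
            ((y : G) * ((g : G) ^ i * (y : G)⁻¹ * ((g : G) ^ i)⁻¹))⁻¹
        group
      rw [Finset.prod_eq_single 0 hinner (fun hn => absurd (Finset.mem_range.mpr hp.pos) hn)] at hswap
      have hu1 : u ^ r = 1 := by
        rw [← hswap, Finset.prod_congr rfl (fun (y : Q) _ =>
          show c ((y : G) * (g : G) ^ 0 * (y : G)⁻¹) u = u from Subtype.ext (by rw [hcoe]; group)),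
          Finset.prod_const, Finset.card_univ, ← Nat.card_eq_fintype_card, hQcard, hk, pow_one]
      have hu2 : orderOf (u : G) ∣ r := orderOf_dvd_iff_pow_eq_one.mpr (by
        rw [← Subgroup.coe_pow, hu1, Subgroup.coe_one])
      exact hne ((Nat.prime_dvd_prime_iff_eq hp hq).mp ((hdvd_of hOp _ (hZO u.2) hu).trans hu2))
    -- the bound on `M0`
    have hM0le : M0 ≤ r - 1 := by
      obtain ⟨P0⟩ : Nonempty (Sylow s H) := inferInstance
      have hP0 : Nat.card (P0 : Subgroup H) = M0 := by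
        have he := exists_eq_pow_mul_pow (Nat.card_pos (α := H)).ne' hne fun x hx hxd =>
          honly x hx (hxd.trans H.card_subgroup_dvd_card)
        have h1 : r ^ k * M0 = r ^ k * s ^ (Nat.card H).factorization s := by
          rw [← hHcard, mul_comm, hkdef, ← he]
        rw [P0.card_eq_multiplicity, Nat.eq_of_mul_eq_mul_left (pow_pos hq.pos k) h1]
      obtain ⟨w, hw⟩ := exists_prime_orderOf_dvd_card' (G := Q) r (by rw [hQcard, hk, pow_one])
      rw [← Subgroup.orderOf_coe] at hw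
      have hcardT : Nat.card {y : Q // orderOf y = r} = r - 1 := by
        haveI := Fintype.ofFinite Q
        rw [Nat.card_eq_fintype_card, Fintype.card_subtype, ← Nat.totient_prime hq]
        exact IsCyclic.card_orderOf_eq_totient (by rw [← Nat.card_eq_fintype_card, hQcard, hk, pow_one])
      rw [← hP0, ← hcardT]
      refine Nat.card_le_card_of_injective (fun x =>
        ⟨⟨((x : H) : G) * w * ((x : H) : G)⁻¹, hQnorm _ (x : H).2 _ w.2⟩, by
          rw [← Subgroup.orderOf_coe]; exact ((MulAut.conj ((x : H) : G)).orderOf_eq _).trans hw⟩) fun x y hxy => ?_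
      have h1 : ((x : H) : G) * w * ((x : H) : G)⁻¹ = ((y : H) : G) * w * ((y : H) : G)⁻¹ :=
        congrArg (fun z : {y : Q // orderOf y = r} => ((z : Q) : G)) hxy
      by_contra hxy'
      have hne1 : y⁻¹ * x ≠ 1 := fun e => hxy' (inv_mul_eq_one.mp e).symm
      obtain ⟨j, hj⟩ := IsPGroup.iff_orderOf.mp P0.isPGroup' (y⁻¹ * x)
      have hdv : s ∣ orderOf (((y⁻¹ * x : (P0 : Subgroup H)) : H) : G) := by
        rw [Subgroup.orderOf_coe, Subgroup.orderOf_coe, hj]
        refine dvd_pow_self s fun e => hne1 ?_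
        rw [e, pow_zero] at hj
        exact orderOf_eq_one_iff.mp hj
      refine hcom (((y⁻¹ * x : (P0 : Subgroup H)) : H) : G) (w : G) ?_ hdv (hw ▸ dvd_rfl)
      simp only [Subgroup.coe_mul, Subgroup.coe_inv]
      show ((y : H) : G)⁻¹ * ((x : H) : G) * w = w * (((y : H) : G)⁻¹ * ((x : H) : G))
      calc ((y : H) : G)⁻¹ * ((x : H) : G) * w
          = ((y : H) : G)⁻¹ * (((x : H) : G) * w * ((x : H) : G)⁻¹) * ((x : H) : G) := by group
        _ = w * (((y : H) : G)⁻¹ * ((x : H) : G)) := by rw [h1]; group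
    -- `r` divides `t`
    haveI := Fact.mk hq
    have e1 := zmod_prime (G := G) hq hqG
    have e2 := zmod_prime_mul (G := G) hq hp (Ne.symm hne) hqG hpG
    rw [mul_comm r s, hmix, Nat.cast_zero] at e2
    have hfs : (cntOrd G s : ZMod r) = 0 := by linear_combination e2 - e1
    have hr1 : ((r - 1 : ℕ) : ZMod r) = -1 := by
      rw [Nat.cast_sub hq.pos, ZMod.natCast_self, Nat.cast_one, zero_sub]
    have hOone : (Nat.card O : ZMod r) = 1 := by
      rw [hfq, Nat.cast_mul, hr1] at e1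
      linear_combination -e1
    have h5 := congrArg (fun n : ℕ => (n : ZMod r)) hsum
    simp only [Nat.cast_add, Nat.cast_mul, Nat.cast_one, ZMod.natCast_self, hr1, hOone, hfs,
      zero_mul, mul_zero] at h5
    have ht5 : (t : ZMod r) = 0 := by linear_combination -h5
    have hrt := Nat.le_of_dvd (Nat.pos_of_ne_zero htpos) ((ZMod.natCast_eq_zero_iff _ _).mp ht5)
    have hb1 : t * (Nat.card O * (r - 1)) < Nat.card O * (r * M0) := by omega
    have hb2 : Nat.card O * (r * M0) ≤ r * (Nat.card O * (r - 1)) := by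
      rw [mul_left_comm r]
      exact Nat.mul_le_mul_left _ (Nat.mul_le_mul_left _ hM0le)
    have hb3 : r * (Nat.card O * (r - 1)) ≤ t * (Nat.card O * (r - 1)) := Nat.mul_le_mul_right _ hrt
    omega
  rw [hM, mul_one] at hsum hHcard
  rw [hk, pow_one] at hHcard
  have hmul' : Nat.card O * r = Nat.card O * (r - 1) + Nat.card O := by
    rw [← Nat.mul_succ, show (r - 1).succ = r by omega]
  have htz : t = 0 := by
    by_contra htne
    have h6 : 1 * (Nat.card O * (r - 1)) ≤ t * (Nat.card O * (r - 1)) :=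
      Nat.mul_le_mul_right _ (Nat.pos_of_ne_zero htne)
    have h7 : Nat.card O * 2 ≤ Nat.card O * (r - 1) := Nat.mul_le_mul_left _ (by omega)
    omega
  refine ⟨fun g => (hpp g).imp (hexpp htz g) (hexpq g), H, ⟨?_, ?_, ?_⟩, by rw [hHcard]; exact hq⟩
  · intro e
    rw [e, Subgroup.card_bot] at hHcard
    exact hq.one_lt.ne hHcard
  · intro e
    exact hv01 (hOHbot v0 hv0O (e ▸ Subgroup.mem_top v0))
  · intro g hg
    rw [Subgroup.eq_bot_iff_forall]
    rintro x ⟨hxH, hxg⟩
    by_contra hx1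
    obtain ⟨v, hv, y, hy, rfl⟩ := hmulOH g
    have hv1 : v ≠ 1 := fun e => hg (by rw [e, one_mul]; exact hy)
    replace hxg : (MulAut.conj (v * y))⁻¹ • x ∈ H := Subgroup.mem_pointwise_smul_iff_inv_smul_mem.mp hxg
    have hxg' : v⁻¹ * x * v ∈ H := by
      have h0 : (v * y)⁻¹ * x * (v * y) ∈ H := by simpa [MulAut.smul_def, mul_assoc] using hxg
      have := H.mul_mem (H.mul_mem hy h0) (H.inv_mem hy)
      rwa [show y * ((v * y)⁻¹ * x * (v * y)) * y⁻¹ = v⁻¹ * x * v by group] at this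
    have h1 : x⁻¹ * (v⁻¹ * x * v) = 1 := by
      refine hOHbot _ ?_ (H.mul_mem (H.inv_mem hxH) hxg')
      rw [show x⁻¹ * (v⁻¹ * x * v) = (x⁻¹ * v⁻¹ * x⁻¹⁻¹) * v by group]
      exact O.mul_mem (hOn.conj_mem _ (O.inv_mem hv) x⁻¹) hv
    have h2 : Commute v x := by
      have h3 : x = v⁻¹ * x * v := inv_mul_eq_one.mp h1
      show v * x = x * v
      conv_lhs => rw [h3]
      group
    refine hv1 (hfree x v ?_ hv h2)
    have hd := Subgroup.orderOf_dvd_natCard H hxH
    rw [hHcard] at hd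
    rcases (Nat.dvd_prime hq).mp hd with h4 | h4
    · exact absurd (orderOf_eq_one_iff.mp h4) hx1
    · rw [h4]

/-- The odd order case of two primes. -/
theorem structure_two_primes (h : ThreeVals G a b) (hodd : Odd (Nat.card G))
    (h2 : (Nat.card G).primeFactors.card = 2) :
    (∀ (p : ℕ) [Fact p.Prime] (P : Sylow p G), p ∣ Nat.card G → Monoid.exponent ↥(P : Subgroup G) = p) ∧
      ∃ C : Subgroup G, Cfsg.IsFrobeniusComplement C ∧ (Nat.card C).Prime := by
  classical
  obtain ⟨p, q, hne, he⟩ := Finset.card_eq_two.mp h2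
  have hmp : p ∈ (Nat.card G).primeFactors := by rw [he]; simp
  have hmq : q ∈ (Nat.card G).primeFactors := by rw [he]; simp
  have hp := Nat.prime_of_mem_primeFactors hmp
  have hq := Nat.prime_of_mem_primeFactors hmq
  have hpG := Nat.dvd_of_mem_primeFactors hmp
  have hqG := Nat.dvd_of_mem_primeFactors hmq
  have hne2 : ∀ {s : ℕ}, s ∣ Nat.card G → s ≠ 2 := fun hs e =>
    Nat.not_even_iff_odd.mpr hodd (even_iff_two_dvd.mpr (e ▸ hs))
  have honly : ∀ r : ℕ, r.Prime → r ∣ Nat.card G → r = p ∨ r = q := fun r hr hrG => by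
    have : r ∈ (Nat.card G).primeFactors := Nat.mem_primeFactors.mpr ⟨hr, hrG, Nat.card_pos.ne'⟩
    rw [he] at this
    simpa using this
  haveI hsol : Group.IsSolvable G := isSolvable_of_two_primes p q hp hq hne honly
  have h20 : cntOrd G 2 = 0 := by
    by_contra h0
    obtain ⟨g, hg⟩ := (cntOrd_ne_zero_iff 2).mp h0
    exact hne2 (hg ▸ orderOf_dvd_natCard g) rfl
  have h40 : cntOrd G 4 = 0 := by
    by_contra h0
    obtain ⟨g, hg⟩ := (cntOrd_ne_zero_iff 4).mp h0
    exact hne2 ((show 2 ∣ 4 by norm_num).trans (hg ▸ orderOf_dvd_natCard g)) rfl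
  have hdiff := prime_counts_ne h (by omega) h40 hp (hne2 hpG) hpG hq (hne2 hqG) hqG hne
  have hmix : cntOrd G (p * q) = 0 := by
    by_contra h0
    refine mixed_count_ne h hp hq (hne2 hqG) hne hpG hqG ?_
    by_contra hc
    refine mixed_count_ne h hq hp (hne2 hpG) (Ne.symm hne) hqG hpG ?_
    rw [mul_comm]
    exact h.eq_of_ne (h.mem (three_le_mul hp (hne2 hpG) hq) h0)
      (h.mem (three_le_of_prime hq (hne2 hqG)) (cntOrd_prime_ne_zero hq hqG))
      (h.mem (three_le_of_prime hp (hne2 hpG)) (cntOrd_prime_ne_zero hp hpG)) hc (Ne.symm hdiff)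
  haveI : Nontrivial G := by
    rw [← Finite.one_lt_card_iff_nontrivial]
    exact hp.one_lt.trans_le (Nat.le_of_dvd Nat.card_pos hpG)
  obtain ⟨r, N, hr, hNn, hNbot, hNr⟩ := exists_normal_pGroup G
  have hrG : r ∣ Nat.card G := by
    obtain ⟨j, hj⟩ := (haveI := Fact.mk hr; hNr.exists_card_eq)
    refine (?_ : r ∣ Nat.card N).trans N.card_subgroup_dvd_card
    rw [hj]
    refine dvd_pow_self r fun e => hNbot (Subgroup.card_eq_one.mp ?_)
    rw [hj, e, pow_zero]
  obtain ⟨hexp, hC⟩ : (∀ g : G, g ^ p = 1 ∨ g ^ q = 1) ∧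
      ∃ C : Subgroup G, Cfsg.IsFrobeniusComplement C ∧ (Nat.card C).Prime := by
    rcases honly r hr hrG with rfl | rfl
    · exact structure_of_normal h hp (hne2 hpG) hq (hne2 hqG) hne hpG hqG honly hdiff hmix
        ⟨N, hNn, hNbot, hNr⟩
    · obtain ⟨h1, h2⟩ := structure_of_normal h hq (hne2 hqG) hp (hne2 hpG) (Ne.symm hne) hqG hpG
        (fun s hs hsG => (honly s hs hsG).symm) (Ne.symm hdiff) (by rw [mul_comm]; exact hmix)
        ⟨N, hNn, hNbot, hNr⟩
      exact ⟨fun g => (h1 g).symm, h2⟩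
  refine ⟨fun s _ P hsG => ?_, hC⟩
  have hs : s.Prime := Fact.out
  have hP : ∀ x : (P : Subgroup G), x ^ s = 1 := by
    intro x
    rw [← orderOf_dvd_iff_pow_eq_one]
    obtain ⟨j, hj⟩ := IsPGroup.iff_orderOf.mp P.isPGroup' x
    rw [hj]
    rcases Nat.lt_or_ge j 2 with hj2 | hj2
    · exact (pow_dvd_pow s (show j ≤ 1 by omega)).trans (by rw [pow_one])
    · exfalso
      have hd : s ^ 2 ∣ orderOf (x : G) := by
        rw [Subgroup.orderOf_coe, hj]; exact pow_dvd_pow s hj2
      obtain ⟨u, hu, hxu⟩ : ∃ u : ℕ, u.Prime ∧ (x : G) ^ u = 1 :=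
        (hexp (x : G)).elim (fun h => ⟨p, hp, h⟩) (fun h => ⟨q, hq, h⟩)
      have h3 : s ^ 2 ∣ u := hd.trans (orderOf_dvd_iff_pow_eq_one.mpr hxu)
      have h4 := (Nat.prime_dvd_prime_iff_eq hs hu).mp ((dvd_pow_self s two_ne_zero).trans h3)
      rw [← h4] at h3
      have h5 := Nat.le_of_dvd hs.pos h3
      have h6 := hs.two_le
      nlinarith
  haveI : Nontrivial (P : Subgroup G) := by
    rw [← Finite.one_lt_card_iff_nontrivial]
    exact hs.one_lt.trans_le (Nat.le_of_dvd Nat.card_pos (P.dvd_card_of_dvd_card hsG))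
  refine ((Nat.dvd_prime hs).mp (Monoid.exponent_dvd_iff_forall_pow_eq_one.mpr hP)).resolve_left fun e => ?_
  exact not_subsingleton (P : Subgroup G) (Monoid.exp_eq_one_iff.mp e)

end Cfsg.Agent.Lib.OrderCounts
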